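import Cfsg.Agent.Lib.Grp.PrimeGraphCIT.Basic
import Cfsg.Agent.Lib.Block.Zas.Basic

/-!
Simple normal subgroups of groups in which involution centralisers are 2-groups.
-/

set_option autoImplicit false
set_option linter.style.haveILetI false
set_option linter.unusedSectionVars false

universe u

namespace Cfsg.Agent.Grp.PGCIT

open Subgroup Cfsg.Agent Cfsg.Agent.Transfer.CIT

variable {G : Type u} [Group G] [Finite G]

/-- An element of a 2-subgroup commuting with an element of odd order. -/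
theorem eq_one_of_commute_two (h : IsCIT G) {S : Subgroup G} (hS : IsPGroup 2 S) {x u : G} (hu : u ∈ S)
    (hu1 : u ≠ 1) (hx : Commute x u) (ho : ¬ 2 ∣ orderOf x) : x = 1 := by
  obtain ⟨k, hk⟩ := (IsPGroup.iff_orderOf.1 hS) ⟨u, hu⟩
  rw [orderOf_mk] at hk
  have h2 : 2 ∣ orderOf u := by
    rcases k with _ | k
    · exact absurd (orderOf_eq_one_iff.1 (by rw [hk, pow_zero])) hu1
    · rw [hk]; exact dvd_pow_self 2 k.succ_ne_zero
  exact not_commute_odd h (orderOf_pow_orderOf_div (orderOf_pos u).ne' h2) (hx.pow_right _) ho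

/-- An element commuting with a 2-element in a section has order a power of two. -/
theorem false_of_section (h : IsCIT G) {H : Type*} [Group H] [Finite H] (N : Subgroup G) (f : N →* H)
    {u w : N} (hu : f u ≠ 1) (hu2 : f u ^ 2 = 1) (hw : f w ≠ 1) (hwo : ¬ 2 ∣ orderOf (f w))
    (hc : Commute (f u) (f w)) : False := by
  have hfu : orderOf (f u) = 2 := orderOf_eq_prime hu2 hu
  have ho : orderOf (f (u * w)) = 2 * orderOf (f w) := by
    rw [map_mul, hc.orderOf_mul_eq_mul_orderOf_of_coprime (by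
      rw [hfu]; exact Nat.prime_two.coprime_iff_not_dvd.2 hwo), hfu]
  have hd : orderOf (f (u * w)) ∣ orderOf ((u * w : N) : G) := by
    rw [orderOf_coe]; exact orderOf_map_dvd f _
  obtain ⟨k, hk⟩ := even_order h ((dvd_mul_right 2 _).trans (ho ▸ hd))
  rw [hk, ho] at hd
  obtain ⟨j, -, hj⟩ := (Nat.dvd_prime_pow Nat.prime_two).1 ((dvd_mul_left _ 2).trans hd)
  rcases j with _ | j
  · exact hw (orderOf_eq_one_iff.1 (by rw [hj, pow_zero]))
  · exact hwo (hj ▸ dvd_pow_self 2 j.succ_ne_zero)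

theorem frattini (M : Subgroup G) [M.Normal] (S : Sylow 2 M) :
    M.relIndex (normalizer (((S : Subgroup M).map M.subtype : Subgroup G) : Set G)) = M.index := by
  haveI := Fact.mk Nat.prime_two
  have hfr := Sylow.normalizer_sup_eq_top S
  rw [← relIndex_top_right, ← hfr]
  exact (relIndex_sup_right _ M).symm

/-- A new prime divides the number of non-trivial elements of a Sylow 2-subgroup. -/
theorem dvd_card_sub_one (h : IsCIT G) (M : Subgroup G) [M.Normal] (S : Sylow 2 M) {s : ℕ} (hs : s.Prime)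
    (hs2 : s ≠ 2) (hd : s ∣ Nat.card G) (hM : ¬ s ∣ Nat.card M) : s ∣ Nat.card S - 1 := by
  classical
  haveI := Fact.mk Nat.prime_two
  haveI := Fact.mk hs
  set S' := (S : Subgroup M).map M.subtype with hS'
  set N := normalizer (S' : Set G) with hN
  have hidx : s ∣ M.index := by
    rw [← M.card_mul_index] at hd
    exact (hs.dvd_mul.1 hd).resolve_left hM
  have hsN : s ∣ Nat.card N := by
    rw [← (M.subgroupOf N).card_mul_index]
    refine dvd_mul_of_dvd_right ?_ _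
    show s ∣ M.relIndex N
    rw [hN, hS', frattini M S]; exact hidx
  obtain ⟨x, hx⟩ := exists_prime_orderOf_dvd_card' s hsN
  have hxs : orderOf (x : G) = s := by rw [orderOf_coe, hx]
  let T := {u : S' // u ≠ 1}
  letI : MulAction (zpowers (x : G)) T :=
    { smul := fun y u => ⟨⟨(y : G) * ((u.1 : S') : G) * (y : G)⁻¹,
        (mem_normalizer_iff.1 (zpowers_le.2 x.2 y.2) _).1 u.1.2⟩, fun e =>
          u.2 (Subtype.ext (conj_eq_one_iff.mp (congrArg Subtype.val e)))⟩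
      one_smul := fun u => Subtype.ext (Subtype.ext (by
        show ((1 : zpowers (x : G)) : G) * _ * ((1 : zpowers (x : G)) : G)⁻¹ = _
        simp))
      mul_smul := fun y z u => Subtype.ext (Subtype.ext (by
        show ((y * z : zpowers (x : G)) : G) * _ * ((y * z : zpowers (x : G)) : G)⁻¹ =
          (y : G) * ((z : G) * _ * (z : G)⁻¹) * (y : G)⁻¹
        simp only [Subgroup.coe_mul]; group)) }
  have hfree := Block.Zas.card_of_free (H := zpowers (x : G)) (X := T) fun y u hy => by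
    have hc : Commute (y : G) ((u.1 : S') : G) :=
      mul_inv_eq_iff_eq_mul.1 (congrArg (fun v : T => ((v.1 : S') : G)) hy)
    refine Subtype.ext (eq_one_of_commute_two h (S.isPGroup'.map M.subtype) u.1.2
      (fun e => u.2 (Subtype.ext e)) hc fun h2 => ?_)
    have : orderOf (y : G) ∣ s := by
      exact hxs ▸ orderOf_dvd_of_mem_zpowers y.2
    exact hs2 ((Nat.prime_dvd_prime_iff_eq Nat.prime_two hs).1 (h2.trans this)).symm
  rw [Nat.card_zpowers, hxs] at hfree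
  have hT : Nat.card T + 1 = Nat.card S := by
    rw [← Finite.card_option, Nat.card_congr (Equiv.optionSubtypeNe (1 : S')), hS',
      Subgroup.card_map_of_injective M.subtype_injective]
  exact ⟨Nat.card (MulAction.orbitRel.Quotient (zpowers (x : G)) T), by rw [mul_comm, ← hfree]; omega⟩

/-- A Sylow 2-subgroup with a torus permuting its central involutions regularly. -/
structure Torus (M : Subgroup G) where
  S : Sylow 2 M
  Z : Subgroup M
  W : Subgroup M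
  zS : Z ≤ (S : Subgroup M)
  cent : ∀ z ∈ Z, ∀ s ∈ (S : Subgroup M), z * s = s * z
  inv : ∀ s ∈ (S : Subgroup M), s * s = 1 ↔ s ∈ Z
  wS : W ≤ normalizer ((S : Subgroup M) : Set M)
  comm : ∀ v ∈ W, ∀ w ∈ W, v * w = w * v
  card_eq : Nat.card W + 1 = Nat.card Z
  trans : ∀ z ∈ Z, ∀ z' ∈ Z, z ≠ 1 → z' ≠ 1 → ∃ w ∈ W, w * z * w⁻¹ = z'

/-- With a large torus, the simple normal subgroup is the whole group. -/
theorem top_of_torus (h : IsCIT G) (M : Subgroup G) [hMn : M.Normal] (D : Torus M)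
    (hZ : 4 < Nat.card D.Z) : M = ⊤ := by
  classical
  haveI := Fact.mk Nat.prime_two
  set S := (D.S : Subgroup M).map M.subtype with hS
  set Z := D.Z.map M.subtype with hZdef
  set W := D.W.map M.subtype with hWdef
  have hSp : IsPGroup 2 S := D.S.isPGroup'.map _
  have hZS : Z ≤ S := map_mono D.zS
  have hSM : S ≤ M := map_subtype_le _
  have hcardZ : Nat.card Z = Nat.card D.Z := card_map_of_injective M.subtype_injective
  have hcardW : Nat.card W = Nat.card D.W := card_map_of_injective M.subtype_injective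
  have hcent : ∀ z ∈ Z, ∀ s ∈ S, z * s = s * z := by
    rintro _ ⟨z, hz, rfl⟩ _ ⟨s, hs, rfl⟩
    exact congrArg M.subtype (D.cent z hz s hs)
  have hinv : ∀ s ∈ S, s * s = 1 ↔ s ∈ Z := by
    rintro _ ⟨s, hs, rfl⟩
    rw [← map_mul, ← (map_one M.subtype), M.subtype_injective.eq_iff, D.inv s hs]
    exact (mem_map_iff_mem M.subtype_injective).symm
  have hcomm : ∀ v ∈ W, ∀ w ∈ W, v * w = w * v := by
    rintro _ ⟨v, hv, rfl⟩ _ ⟨w, hw, rfl⟩
    exact congrArg M.subtype (D.comm v hv w hw)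
  have htrans : ∀ z ∈ Z, ∀ z' ∈ Z, z ≠ 1 → z' ≠ 1 → ∃ w ∈ W, w * z * w⁻¹ = z' := by
    rintro _ ⟨z, hz, rfl⟩ _ ⟨z', hz', rfl⟩ h1 h2
    obtain ⟨w, hw, e⟩ := D.trans z hz z' hz' (fun e => h1 (by rw [e, map_one]))
      (fun e => h2 (by rw [e, map_one]))
    exact ⟨_, ⟨w, hw, rfl⟩, by rw [← map_inv, ← map_mul, ← map_mul, e]⟩
  set N := normalizer (S : Set G) with hN
  have hWN : W ≤ N := by
    rintro _ ⟨w, hw, rfl⟩
    refine mem_normalizer_fintype fun s hs => ?_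
    obtain ⟨s, hs, rfl⟩ := hs
    exact ⟨w * s * w⁻¹, (mem_normalizer_iff.1 (D.wS hw) s).1 hs, by simp⟩
  have hNS : ∀ n ∈ N, ∀ s ∈ S, n * s * n⁻¹ ∈ S := fun n hn s hs => (mem_normalizer_iff.1 hn s).1 hs
  have hNZ : ∀ n ∈ N, ∀ z ∈ Z, n * z * n⁻¹ ∈ Z := fun n hn z hz => by
    refine (hinv _ (hNS n hn z (hZS hz))).1 ?_
    rw [show n * z * n⁻¹ * (n * z * n⁻¹) = n * (z * z) * n⁻¹ by group, (hinv z (hZS hz)).2 hz]
    group
  have hWodd : ¬ 2 ∣ Nat.card W := by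
    obtain ⟨k, hk⟩ := (hSp.to_le hZS).exists_card_eq
    rw [hcardW]
    rw [hcardZ] at hk
    have h2 := D.card_eq
    rw [hk] at h2 hZ
    rcases k with _ | k
    · simp at hZ
    · rw [pow_succ] at h2; omega
  have hWo : ∀ w ∈ W, ¬ 2 ∣ orderOf w := fun w hw hd => hWodd (hd.trans (by
    rw [← orderOf_mk w hw]; exact orderOf_dvd_natCard _))
  obtain ⟨z0, hz0, hz01⟩ : ∃ z ∈ Z, z ≠ 1 := Z.bot_or_exists_ne_one.resolve_left fun e => by
    rw [e, card_bot] at hcardZ; omega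
  have hinj : ∀ w ∈ W, w * z0 * w⁻¹ = z0 → w = 1 := fun w hw e =>
    eq_one_of_commute_two h hSp (hZS hz0) hz01 (mul_inv_eq_iff_eq_mul.1 e) (hWo w hw)
  have hsplit : ∀ n ∈ N, ∃ w ∈ W, ∃ c ∈ N, Commute c z0 ∧ n = w * c := fun n hn => by
    obtain ⟨w, hw, e⟩ := htrans z0 hz0 (n * z0 * n⁻¹) (hNZ n hn z0 hz0) hz01
      (fun e => hz01 (conj_eq_one_iff.1 e))
    refine ⟨w, hw, w⁻¹ * n, mul_mem (inv_mem (hWN hw)) hn, ?_, by group⟩
    refine mul_inv_eq_iff_eq_mul.1 ?_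
    calc (w⁻¹ * n) * z0 * (w⁻¹ * n)⁻¹ = w⁻¹ * (n * z0 * n⁻¹) * w := by group
      _ = _ := by rw [← e]; group
  have hz0o : orderOf z0 = 2 := orderOf_eq_prime (by rw [sq]; exact (hinv z0 (hZS hz0)).2 hz0) hz01
  have hC2 : IsPGroup 2 (centralizer ({z0} : Set G)) := h z0 hz0o
  have hCM : ∀ c ∈ N, Commute c z0 → c ∈ M → c ∈ S := by
    intro c hcN hcz hcM
    let Q : Subgroup M := ((N ⊓ centralizer ({z0} : Set G)).subgroupOf M)
    have hQ : IsPGroup 2 Q := (hC2.to_le inf_le_right).comap_of_injective M.subtype M.subtype_injective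
    have hSQ : (D.S : Subgroup M) ≤ Q := fun s hs =>
      ⟨le_normalizer ⟨s, hs, rfl⟩, mem_centralizer_singleton_iff.2 (hcent z0 hz0 _ ⟨s, hs, rfl⟩).symm⟩
    have hQS := D.S.is_maximal' hQ hSQ
    have hmem : (⟨c, hcM⟩ : M) ∈ Q := ⟨hcN, mem_centralizer_singleton_iff.2 hcz.eq⟩
    rw [hQS] at hmem
    exact ⟨_, hmem, rfl⟩
  by_contra hne
  have hNM : ¬ N ≤ M := fun hle => hne (by
    have := Sylow.normalizer_sup_eq_top D.S
    rw [← hS, ← hN, sup_eq_right.2 hle] at this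
    exact this)
  obtain ⟨n, hnN, hnM⟩ := SetLike.not_le_iff_exists.1 hNM
  obtain ⟨w, hw, c, hcN, hcz, rfl⟩ := hsplit n hnN
  have hcM : c ∉ M := fun hc => hnM (mul_mem (map_subtype_le _ hw) hc)
  haveI : (S.subgroupOf N).Normal := ⟨fun s hs g => hNS g g.2 _ hs⟩
  let π : N →* N ⧸ S.subgroupOf N := QuotientGroup.mk' _
  have hker : ∀ a : N, π a = 1 ↔ (a : G) ∈ S := fun a => QuotientGroup.eq_one_iff a
  obtain ⟨u, hu1, hu2, huz⟩ : ∃ u : N, π u ≠ 1 ∧ π u ^ 2 = 1 ∧ Commute (u : G) z0 := by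
    obtain ⟨j, hj⟩ := IsPGroup.iff_orderOf.1 hC2 ⟨c, mem_centralizer_singleton_iff.2 hcz.eq⟩
    rw [orderOf_mk] at hj
    have hd : orderOf (π ⟨c, hcN⟩) ∣ 2 ^ j :=
      (orderOf_map_dvd π _).trans (by rw [orderOf_mk, hj])
    obtain ⟨i, -, hi⟩ := (Nat.dvd_prime_pow Nat.prime_two).1 hd
    rcases i with _ | i
    · exact absurd (hSM ((hker _).1 (orderOf_eq_one_iff.1 (by rw [hi, pow_zero])))) hcM
    refine ⟨⟨c, hcN⟩ ^ 2 ^ i, fun e => ?_, ?_, by rw [SubmonoidClass.coe_pow]; exact hcz.pow_left _⟩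
    · rw [map_pow, ← orderOf_dvd_iff_pow_eq_one, hi] at e
      exact absurd ((Nat.pow_dvd_pow_iff_le_right one_lt_two).1 e) (by omega)
    · rw [← map_pow, ← pow_mul, ← pow_succ, map_pow, ← hi, pow_orderOf_eq_one]
  have hwS : ∀ w ∈ W, w ∈ S → w = 1 := fun w hw hs => by
    obtain ⟨k, hk⟩ := IsPGroup.iff_orderOf.1 hSp ⟨w, hs⟩
    rw [orderOf_mk] at hk
    rcases k with _ | k
    · exact orderOf_eq_one_iff.1 (by rw [hk, pow_zero])
    · exact absurd (hk ▸ dvd_pow_self 2 k.succ_ne_zero) (hWo w hw)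
  have hσ : ∀ w ∈ W, ∃ v ∈ W, ∃ s ∈ S, (u : G) * w * (u : G)⁻¹ = v * s := fun w hw => by
    obtain ⟨v, hv, d, hdN, hdz, e⟩ := hsplit _ (mul_mem (mul_mem u.2 (hWN hw)) (inv_mem u.2))
    refine ⟨v, hv, d, hCM d hdN hdz ?_, e⟩
    have hm : (u : G) * w * (u : G)⁻¹ ∈ M := hMn.conj_mem _ (map_subtype_le _ hw) _
    rw [show d = v⁻¹ * ((u : G) * w * (u : G)⁻¹) by rw [e]; group]
    exact mul_mem (inv_mem (map_subtype_le _ hv)) hm
  have hπinj : ∀ v w, ∀ hv : v ∈ W, ∀ hw : w ∈ W, π ⟨v, hWN hv⟩ = π ⟨w, hWN hw⟩ → v = w := by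
    intro v w hv hw e
    have h1 : π (⟨w, hWN hw⟩⁻¹ * ⟨v, hWN hv⟩) = 1 := by rw [map_mul, map_inv, e, inv_mul_cancel]
    exact (inv_mul_eq_one.1 (hwS _ (mul_mem (inv_mem hw) hv) ((hker _).1 h1))).symm
  have hπσ : ∀ w, ∀ hw : w ∈ W, ∀ v, ∀ hv : v ∈ W, ∀ s ∈ S, (u : G) * w * (u : G)⁻¹ = v * s →
      π u * π ⟨w, hWN hw⟩ * (π u)⁻¹ = π ⟨v, hWN hv⟩ := by
    intro w hw v hv s hs e
    rw [← map_inv, ← map_mul, ← map_mul]
    refine QuotientGroup.eq.2 ?_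
    show ((u : G) * w * (u : G)⁻¹)⁻¹ * v ∈ S
    rw [e, mul_inv_rev, inv_mul_cancel_right]
    exact inv_mem hs
  have huu : π u * π u = 1 := by rw [← sq]; exact hu2
  have hui : (π u)⁻¹ = π u := inv_eq_of_mul_eq_one_right huu
  -- the involution inverts the torus modulo the Sylow subgroup
  have hinvW : ∀ w, ∀ hw : w ∈ W, ∃ s ∈ S, (u : G) * w * (u : G)⁻¹ = w⁻¹ * s := by
    intro w hw
    obtain ⟨v, hv, s, hs, e⟩ := hσ w hw
    have e1 := hπσ w hw v hv s hs e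
    have hwv : π ⟨w * v, hWN (mul_mem hw hv)⟩ = π ⟨w, hWN hw⟩ * π ⟨v, hWN hv⟩ := by
      rw [← map_mul]; rfl
    have hvw : π ⟨v, hWN hv⟩ * π ⟨w, hWN hw⟩ = π ⟨w, hWN hw⟩ * π ⟨v, hWN hv⟩ := by
      rw [← map_mul, ← map_mul]
      exact congrArg π (Subtype.ext (hcomm v hv w hw))
    by_cases hp : w * v = 1
    · exact ⟨s, hs, by rw [e, inv_eq_of_mul_eq_one_right hp]⟩
    exfalso
    have hc : Commute (π u) (π ⟨w * v, hWN (mul_mem hw hv)⟩) := by
      refine mul_inv_eq_iff_eq_mul.1 ?_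
      rw [hwv]
      calc π u * (π ⟨w, hWN hw⟩ * π ⟨v, hWN hv⟩) * (π u)⁻¹
          = (π u * π ⟨w, hWN hw⟩ * (π u)⁻¹) * (π u * π ⟨v, hWN hv⟩ * (π u)⁻¹) := by group
        _ = π ⟨v, hWN hv⟩ * π ⟨w, hWN hw⟩ := by
          rw [e1, ← e1, hui]
          congr 1
          calc π u * (π u * π ⟨w, hWN hw⟩ * π u) * π u
              = (π u * π u) * π ⟨w, hWN hw⟩ * (π u * π u) := by group
            _ = _ := by rw [huu, one_mul, mul_one]
        _ = _ := hvw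
    refine false_of_section h N π hu1 hu2 (fun e' => hp (hwS _ (mul_mem hw hv) ((hker _).1 e'))) ?_ hc
    intro hd
    refine hWo _ (mul_mem hw hv) (hd.trans ((orderOf_map_dvd π _).trans ?_))
    rw [orderOf_mk]
  -- so the torus has exponent three
  have hact : ∀ w ∈ W, (u : G) * (w * z0 * w⁻¹) * (u : G)⁻¹ = w⁻¹ * z0 * w := by
    intro w hw
    obtain ⟨s, hs, e⟩ := hinvW w hw
    calc (u : G) * (w * z0 * w⁻¹) * (u : G)⁻¹
        = ((u : G) * w * (u : G)⁻¹) * ((u : G) * z0 * (u : G)⁻¹) * ((u : G) * w * (u : G)⁻¹)⁻¹ := by group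
      _ = w⁻¹ * (s * z0 * s⁻¹) * w := by rw [e, mul_inv_eq_iff_eq_mul.2 huz.eq]; group
      _ = _ := by rw [mul_inv_eq_iff_eq_mul.2 (hcent z0 hz0 s hs).symm]
  have hzz : ∀ z ∈ Z, z * z = 1 := fun z hz => (hinv z (hZS hz)).2 hz
  have hzc : ∀ x ∈ Z, ∀ y ∈ Z, x * y = y * x := fun x hx y hy => hcent x hx y (hZS hy)
  have hadd : ∀ w ∈ W, w ≠ 1 → z0 * (w * z0 * w⁻¹) = w⁻¹ * z0 * w := by
    intro w hw hw1
    have hx : w * z0 * w⁻¹ ∈ Z := hNZ w (hWN hw) z0 hz0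
    have hxne : z0 * (w * z0 * w⁻¹) ≠ 1 := fun e =>
      hw1 (hinj w hw ((eq_inv_of_mul_eq_one_right e).trans (inv_eq_of_mul_eq_one_right (hzz z0 hz0))))
    obtain ⟨v, hv, hve⟩ := htrans z0 hz0 _ (mul_mem hz0 hx) hz01 hxne
    have e1 := hact v hv
    rw [hve] at e1
    have e2 : z0 * (w⁻¹ * z0 * w) = v⁻¹ * z0 * v := by
      rw [← e1, ← hact w hw]
      calc z0 * ((u : G) * (w * z0 * w⁻¹) * (u : G)⁻¹)
          = ((u : G) * z0 * (u : G)⁻¹) * ((u : G) * (w * z0 * w⁻¹) * (u : G)⁻¹) := by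
            rw [mul_inv_eq_iff_eq_mul.2 huz.eq]
        _ = _ := by group
    have hwv : w * v = v * w := hcomm w hw v hv
    have h3 : (w * v) * z0 * (w * v)⁻¹ = z0 := by
      have e3 : ((w * v) * z0 * (w * v)⁻¹) * (v * z0 * v⁻¹) = w * z0 * w⁻¹ := by
        have e4 := congrArg (fun y => (w * v) * y * (w * v)⁻¹) e2
        have e5 : (w * v) * (w⁻¹ * z0 * w) * (w * v)⁻¹ = v * z0 * v⁻¹ := by
          rw [hwv]; group
        calc ((w * v) * z0 * (w * v)⁻¹) * (v * z0 * v⁻¹)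
            = (w * v) * (z0 * (w⁻¹ * z0 * w)) * (w * v)⁻¹ := by rw [← e5]; group
          _ = _ := by rw [e4]; group
      rw [hve] at e3
      calc (w * v) * z0 * (w * v)⁻¹
          = ((w * v) * z0 * (w * v)⁻¹ * (z0 * (w * z0 * w⁻¹))) * (z0 * (w * z0 * w⁻¹))⁻¹ := by group
        _ = _ := by
          rw [e3, mul_inv_rev, inv_eq_of_mul_eq_one_right (hzz z0 hz0),
            ← mul_assoc, mul_inv_cancel, one_mul]
    have h4 := hinj _ (mul_mem hw hv) h3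
    rw [← inv_eq_of_mul_eq_one_right h4] at hve
    rw [← hve]; group
  have hW3 : ∀ w ∈ W, w * w * w = 1 := by
    intro w hw
    by_cases hw1 : w = 1
    · simp [hw1]
    have e := hadd w hw hw1
    have e' : (w * z0 * w⁻¹) * ((w * w) * z0 * (w * w)⁻¹) = z0 := by
      calc (w * z0 * w⁻¹) * ((w * w) * z0 * (w * w)⁻¹) = w * (z0 * (w * z0 * w⁻¹)) * w⁻¹ := by group
        _ = _ := by rw [e]; group
    have hx := hzz _ (hNZ w (hWN hw) z0 hz0)
    have e3 : (w * w) * z0 * (w * w)⁻¹ = w⁻¹ * z0 * w := by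
      rw [← e, hzc z0 hz0 _ (hNZ w (hWN hw) z0 hz0)]
      calc (w * w) * z0 * (w * w)⁻¹
          = (w * z0 * w⁻¹ * (w * z0 * w⁻¹)) * ((w * w) * z0 * (w * w)⁻¹) := by rw [hx, one_mul]
        _ = _ := by rw [mul_assoc (w * z0 * w⁻¹), e']
    refine hinj _ (mul_mem (mul_mem hw hw) hw) ?_
    calc w * w * w * z0 * (w * w * w)⁻¹ = w * ((w * w) * z0 * (w * w)⁻¹) * w⁻¹ := by group
      _ = _ := by rw [e3]; group
  have hprod : ∀ a ∈ W, ∀ b ∈ W, a ≠ b →
      (a * z0 * a⁻¹) * (b * z0 * b⁻¹) = (a * a * b⁻¹) * z0 * (a * a * b⁻¹)⁻¹ := by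
    intro a ha b hb hab
    have e := hadd (a⁻¹ * b) (mul_mem (inv_mem ha) hb) fun e => hab (inv_mul_eq_one.1 e)
    have hba : (a⁻¹ * b)⁻¹ = a * b⁻¹ := by
      rw [mul_inv_rev, inv_inv]; exact hcomm _ (inv_mem hb) _ ha
    calc (a * z0 * a⁻¹) * (b * z0 * b⁻¹) = a * (z0 * ((a⁻¹ * b) * z0 * (a⁻¹ * b)⁻¹)) * a⁻¹ := by group
      _ = a * ((a⁻¹ * b)⁻¹ * z0 * (a⁻¹ * b)⁻¹⁻¹) * a⁻¹ := by rw [e, inv_inv]
      _ = _ := by rw [hba]; group
  obtain ⟨a, ha, ha1⟩ : ∃ a ∈ W, a ≠ 1 := W.bot_or_exists_ne_one.resolve_left fun e => by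
    rw [e, card_bot] at hcardW; have := D.card_eq; omega
  have hthree : ∀ b ∈ W, b = 1 ∨ b = a ∨ b = a⁻¹ := by
    intro b hb
    by_contra hc
    push Not at hc
    obtain ⟨hb1, hba, hbai⟩ := hc
    have hX := hzc
    have ha3 := hW3 a ha
    have hb3 := hW3 b hb
    have hainv : a⁻¹ = a * a := inv_eq_of_mul_eq_one_right (by rw [← mul_assoc]; exact ha3)
    have hbinv : b⁻¹ = b * b := inv_eq_of_mul_eq_one_right (by rw [← mul_assoc]; exact hb3)
    have hne : a * a * b⁻¹ ≠ 1 := fun e => hbai (by rw [hainv, ← mul_inv_eq_one.1 e])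
    have h1 : (z0 * (a * z0 * a⁻¹)) * (b * z0 * b⁻¹) = (a⁻¹ * a⁻¹ * b⁻¹) * z0 * (a⁻¹ * a⁻¹ * b⁻¹)⁻¹ := by
      rw [hadd a ha ha1, ← hprod a⁻¹ (inv_mem ha) b hb hbai.symm, inv_inv]
    have h2 : z0 * ((a * z0 * a⁻¹) * (b * z0 * b⁻¹)) =
        (a * a * b⁻¹)⁻¹ * z0 * (a * a * b⁻¹) := by
      rw [hprod a ha b hb hba.symm]
      exact hadd _ (mul_mem (mul_mem ha ha) (inv_mem hb)) hne
    rw [mul_assoc, h2] at h1
    have h3 : ((a⁻¹ * a⁻¹ * b⁻¹)⁻¹ * (a * a * b⁻¹)⁻¹) * z0 * ((a⁻¹ * a⁻¹ * b⁻¹)⁻¹ * (a * a * b⁻¹)⁻¹)⁻¹ = z0 := by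
      calc ((a⁻¹ * a⁻¹ * b⁻¹)⁻¹ * (a * a * b⁻¹)⁻¹) * z0 * ((a⁻¹ * a⁻¹ * b⁻¹)⁻¹ * (a * a * b⁻¹)⁻¹)⁻¹
          = (a⁻¹ * a⁻¹ * b⁻¹)⁻¹ * ((a * a * b⁻¹)⁻¹ * z0 * (a * a * b⁻¹)) * (a⁻¹ * a⁻¹ * b⁻¹) := by
            simp only [mul_inv_rev, inv_inv, mul_assoc]
        _ = _ := by
          rw [h1]
          simp only [mul_inv_rev, inv_inv, mul_assoc, mul_inv_cancel_left, inv_mul_cancel_left,
            mul_inv_cancel, inv_mul_cancel, mul_one]
    have h4 := hinj _ (mul_mem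
      (inv_mem (mul_mem (mul_mem (inv_mem ha) (inv_mem ha)) (inv_mem hb)))
      (inv_mem (mul_mem (mul_mem ha ha) (inv_mem hb)))) h3
    rw [inv_mul_eq_one] at h4
    -- the two words differ by a cube
    have h5 : a⁻¹ * a⁻¹ * b⁻¹ * (a * a * b⁻¹) = 1 := by rw [h4]; group
    have h6 : b⁻¹ * b⁻¹ = 1 := by
      rw [← h5, mul_assoc (a⁻¹ * a⁻¹) b⁻¹, hcomm b⁻¹ (inv_mem hb) _ (mul_mem (mul_mem ha ha) (inv_mem hb))]
      group
    rw [hbinv] at h6
    refine hb1 ?_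
    calc b = b * (b * b * b) := by rw [hb3, mul_one]
      _ = b * b * (b * b) := by group
      _ = 1 := h6
  have hle : Nat.card W ≤ 3 := by
    haveI := Fintype.ofFinite W
    rw [Nat.card_eq_fintype_card]
    refine le_trans (Finset.card_le_card (s := Finset.univ) (t := ({1, ⟨a, ha⟩, ⟨a, ha⟩⁻¹} : Finset W)) ?_)
      Finset.card_le_three
    intro b _
    simp only [Finset.mem_insert, Finset.mem_singleton, Subtype.ext_iff, Subgroup.coe_one, Subgroup.coe_inv]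
    exact hthree b b.2
  have h7 := D.card_eq
  omega

end Cfsg.Agent.Grp.PGCIT
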