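import Cfsg.Agent.Lib.Grp.PrimeGraphCIT.Index
import Cfsg.Agent.Lib.Classical.DicksonTorus
import Cfsg.Agent.Lib.Lie.Sz.Group
import Cfsg.Agent.Lib.Lie.Sz.LieEquiv

/-!
Tori of the groups `PSL(2, 2^n)` and `Sz(q)`.
-/

set_option autoImplicit false
set_option linter.style.haveILetI false
set_option linter.unusedSectionVars false

universe u v

namespace Cfsg.Agent.Grp.PGCIT

open Subgroup Cfsg.Agent

variable {G : Type u} [Group G] [Finite G]

/-- Transport of torus data along an isomorphism. -/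
theorem exists_torus_of_equiv (M : Subgroup G) {Q : Type v} [Group Q] [Finite Q] (e : M ≃* Q)
    (S Z W : Subgroup Q) (hS : IsPGroup 2 S) (hSi : ¬ 2 ∣ S.index) (hZS : Z ≤ S)
    (hcent : ∀ z ∈ Z, ∀ s ∈ S, z * s = s * z) (hinv : ∀ s ∈ S, s * s = 1 ↔ s ∈ Z)
    (hWS : ∀ w ∈ W, ∀ s ∈ S, w * s * w⁻¹ ∈ S) (hcomm : ∀ v ∈ W, ∀ w ∈ W, v * w = w * v)
    (hcard : Nat.card W + 1 = Nat.card Z)
    (htrans : ∀ z ∈ Z, ∀ z' ∈ Z, z ≠ 1 → z' ≠ 1 → ∃ w ∈ W, w * z * w⁻¹ = z') :
    ∃ D : Torus M, Nat.card D.Z = Nat.card Z := by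
  haveI := Fact.mk Nat.prime_two
  let f : Q →* M := e.symm.toMonoidHom
  have hf : Function.Injective f := e.symm.injective
  have hff : ∀ x, f x = e.symm x := fun _ => rfl
  let P : Sylow 2 M := ((hS.toSylow hSi).mapSurjective (f := f) e.symm.surjective)
  have hP : (P : Subgroup M) = S.map f := rfl
  refine ⟨⟨P, Z.map f, W.map f, hP ▸ map_mono hZS, ?_, ?_, ?_, ?_, ?_, ?_⟩,
    card_map_of_injective hf⟩
  · rw [hP]
    rintro _ ⟨z, hz, rfl⟩ _ ⟨s, hs, rfl⟩
    rw [← map_mul, ← map_mul, hcent z hz s hs]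
  · rw [hP]
    rintro _ ⟨s, hs, rfl⟩
    rw [← map_mul, ← map_one f, hf.eq_iff, hinv s hs]
    exact (mem_map_iff_mem hf).symm
  · rintro _ ⟨w, hw, rfl⟩
    refine mem_normalizer_fintype fun x hx => ?_
    obtain ⟨s, hs, rfl⟩ := (show x ∈ S.map f from hP ▸ hx)
    show f w * f s * (f w)⁻¹ ∈ (P : Subgroup M)
    rw [hP, ← map_inv, ← map_mul, ← map_mul]
    exact ⟨_, hWS w hw s hs, rfl⟩
  · rintro _ ⟨a, ha, rfl⟩ _ ⟨b, hb, rfl⟩
    rw [← map_mul, ← map_mul, hcomm a ha b hb]
  · rw [card_map_of_injective hf, card_map_of_injective hf, hcard]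
  · rintro _ ⟨z, hz, rfl⟩ _ ⟨z', hz', rfl⟩ h1 h2
    obtain ⟨w, hw, he⟩ := htrans z hz z' hz' (fun e' => h1 (by rw [e', map_one]))
      (fun e' => h2 (by rw [e', map_one]))
    exact ⟨f w, ⟨w, hw, rfl⟩, by rw [← map_inv, ← map_mul, ← map_mul, he]⟩

/-- A Suzuki group has a torus. -/
theorem exists_torus_suzuki (M : Subgroup G) {F : Type} [Field F] [Fintype F] {m : ℕ}
    (hS : Suz.SzField F m) (e : M ≃* ↥(Cfsg.Sz F m)) :
    ∃ D : Torus M, Nat.card D.Z = 2 ^ (2 * m + 1) := by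
  classical
  haveI := Fact.mk Nat.prime_two
  set q := 2 ^ (2 * m + 1) with hq
  let ζ : Multiplicative F →* ↥(Cfsg.Sz F m) := MonoidHom.mk'
    (fun b => Suz.uS hS 0 (Multiplicative.toAdd b)) fun b c => by
      rw [Suz.uS_mul, Suz.th_zero, zero_mul, add_zero, add_zero]; rfl
  have hζ : Function.Injective ζ := fun b c h => (Suz.uS_injective hS h).2
  have hqe : 2 ∣ q := dvd_pow_self 2 (by omega)
  have hidx : ¬ 2 ∣ (Suz.unip hS).index := by
    have h := (Suz.unip hS).card_mul_index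
    rw [Suz.card_unip, Suz.card_Sz hS, mul_assoc] at h
    rw [Nat.eq_of_mul_eq_mul_left (by positivity) h, ← hq, Nat.prime_two.dvd_mul]
    have : 0 < q := by positivity
    have h2 : 2 ∣ q ^ 2 := dvd_pow hqe two_ne_zero
    omega
  obtain ⟨D, hD⟩ := exists_torus_of_equiv M e (Suz.unip hS) ζ.range (Suz.torHom hS).range
    (IsPGroup.of_card (n := (2 * m + 1) * 2) (by rw [Suz.card_unip, ← pow_mul])) hidx
    (by rintro _ ⟨b, rfl⟩; exact (Suz.mem_unip hS).2 ⟨_, _, rfl⟩)
    (by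
      rintro _ ⟨b, rfl⟩ s hs
      obtain ⟨c, d, rfl⟩ := (Suz.mem_unip hS).1 hs
      show Suz.uS hS 0 _ * _ = _ * Suz.uS hS 0 _
      rw [Suz.uS_mul, Suz.uS_mul, Suz.th_zero]
      congr 1 <;> ring)
    (by
      intro s hs
      obtain ⟨c, d, rfl⟩ := (Suz.mem_unip hS).1 hs
      constructor
      · intro h1
        rw [← sq, Suz.uS_sq, ← Suz.uS_zero hS] at h1
        have h2 := (Suz.uS_injective hS h1).2
        have hc : c = 0 := by
          rcases mul_eq_zero.1 h2 with h | h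
          · exact pow_eq_zero_iff (by positivity) |>.1 h
          · exact h
        exact ⟨Multiplicative.ofAdd d, by rw [hc]; rfl⟩
      · rintro ⟨b, hb⟩
        rw [← hb]
        show Suz.uS hS 0 _ * Suz.uS hS 0 _ = 1
        rw [← sq, Suz.uS_sq, mul_zero, Suz.uS_zero])
    (by
      rintro _ ⟨z, rfl⟩ s hs
      obtain ⟨c, d, rfl⟩ := (Suz.mem_unip hS).1 hs
      show Suz.hTor hS z * _ * (Suz.hTor hS z)⁻¹ ∈ _
      rw [Suz.hTor_conj]
      exact (Suz.mem_unip hS).2 ⟨_, _, rfl⟩)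
    (by rintro _ ⟨a, rfl⟩ _ ⟨b, rfl⟩; rw [← map_mul, ← map_mul, mul_comm])
    (by
      rw [← Nat.card_congr (MonoidHom.ofInjective (show Function.Injective (Suz.torHom hS) from Suz.hTor_injective hS)).toEquiv,
        ← Nat.card_congr (MonoidHom.ofInjective hζ).toEquiv,
        Nat.card_units, Nat.card_congr Multiplicative.toAdd]
      have : 0 < Nat.card F := Nat.card_pos
      omega)
    (by
      rintro _ ⟨b, rfl⟩ _ ⟨c, rfl⟩ hb hc
      have hb0 : Multiplicative.toAdd b ≠ 0 := fun h => hb (by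
        show Suz.uS hS 0 _ = 1
        rw [h, Suz.uS_zero])
      have hc0 : Multiplicative.toAdd c ≠ 0 := fun h => hc (by
        show Suz.uS hS 0 _ = 1
        rw [h, Suz.uS_zero])
      obtain ⟨z, hz⟩ := Suz.exists_th_unit hS (Multiplicative.toAdd c / Multiplicative.toAdd b)
        (div_ne_zero hc0 hb0)
      refine ⟨_, ⟨z, rfl⟩, ?_⟩
      show Suz.hTor hS z * Suz.uS hS 0 _ * (Suz.hTor hS z)⁻¹ = Suz.uS hS 0 _
      rw [Suz.hTor_conj, mul_zero, hz, div_mul_cancel₀ _ hb0])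
  exact ⟨D, by rw [hD, ← Nat.card_congr (MonoidHom.ofInjective hζ).toEquiv,
    Nat.card_congr Multiplicative.toAdd, Nat.card_eq_fintype_card, hS.card]⟩

variable {F : Type} [Field F] [Fintype F]

/-- The upper unitriangular matrices. -/
def uMat (b : F) : Matrix.SpecialLinearGroup (Fin 2) F :=
  ⟨!![1, b; 0, 1], by simp [Matrix.det_fin_two]⟩

/-- The diagonal matrices. -/
def dMat (c : Fˣ) : Matrix.SpecialLinearGroup (Fin 2) F :=
  ⟨!![(c : F), 0; 0, ((c⁻¹ : Fˣ) : F)], by simp [Matrix.det_fin_two]⟩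

theorem uMat_mul (a b : F) : uMat a * uMat b = uMat (a + b) := by
  refine Subtype.ext ?_
  rw [Matrix.SpecialLinearGroup.coe_mul]
  ext i j
  fin_cases i <;> fin_cases j <;> simp [uMat, Matrix.mul_apply, Fin.sum_univ_two, add_comm]

theorem dMat_mul (a b : Fˣ) : dMat a * dMat b = dMat (a * b) := by
  refine Subtype.ext ?_
  rw [Matrix.SpecialLinearGroup.coe_mul]
  ext i j
  fin_cases i <;> fin_cases j <;> simp [dMat, Matrix.mul_apply, Fin.sum_univ_two, mul_comm]

theorem dMat_uMat (c : Fˣ) (b : F) : dMat c * uMat b = uMat ((c : F) * c * b) * dMat c := by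
  refine Subtype.ext ?_
  rw [Matrix.SpecialLinearGroup.coe_mul, Matrix.SpecialLinearGroup.coe_mul]
  ext i j
  fin_cases i <;> fin_cases j <;> simp [dMat, uMat, Matrix.mul_apply, Fin.sum_univ_two]
  field_simp

/-- In characteristic two, `PSL(2, F)` has a torus. -/
theorem exists_torus_psl (M : Subgroup G) {n : ℕ} (hn : n ≠ 0) (hF : Fintype.card F = 2 ^ n)
    (e : M ≃* Matrix.ProjectiveSpecialLinearGroup (Fin 2) F) :
    ∃ D : Torus M, Nat.card D.Z = 2 ^ n := by
  classical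
  haveI := Fact.mk Nat.prime_two
  haveI : CharP F 2 := charP_of_card_eq_prime_pow hF
  have heven : 2 ∣ Fintype.card F := hF ▸ dvd_pow_self 2 hn
  have hdel : Dickson.del F = 1 := by
    rcases Dickson.del_cases (F := F) with ⟨h, -⟩ | ⟨-, h⟩
    · exact h
    · exact absurd heven (by simpa using Nat.not_even_iff_odd.2 h ∘ (even_iff_two_dvd).2)
  let π : Matrix.SpecialLinearGroup (Fin 2) F →* Matrix.ProjectiveSpecialLinearGroup (Fin 2) F :=
    QuotientGroup.mk' _
  have hπ : Function.Injective π := by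
    rw [← MonoidHom.ker_eq_bot_iff, ← Subgroup.card_eq_one, ← hdel]
    exact Dickson.card_ker_proj
  let eS : Matrix.SpecialLinearGroup (Fin 2) F ≃* Matrix.ProjectiveSpecialLinearGroup (Fin 2) F :=
    MulEquiv.ofBijective π ⟨hπ, QuotientGroup.mk'_surjective _⟩
  let ζ : Multiplicative F →* Matrix.SpecialLinearGroup (Fin 2) F :=
    MonoidHom.mk' (fun b => uMat (Multiplicative.toAdd b)) fun b c => (uMat_mul _ _).symm
  let δ : Fˣ →* Matrix.SpecialLinearGroup (Fin 2) F :=
    MonoidHom.mk' dMat fun a b => (dMat_mul a b).symm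
  have hζ : Function.Injective ζ := fun b c h => by
    have := congrArg (fun g : Matrix.SpecialLinearGroup (Fin 2) F => (g : Matrix (Fin 2) (Fin 2) F) 0 1) h
    change Multiplicative.toAdd b = Multiplicative.toAdd c at this
    exact Multiplicative.toAdd.injective this
  have hδ : Function.Injective δ := fun b c h => by
    have := congrArg (fun g : Matrix.SpecialLinearGroup (Fin 2) F => (g : Matrix (Fin 2) (Fin 2) F) 0 0) h
    change (b : F) = (c : F) at this
    exact Units.ext this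
  have hcζ : Nat.card ζ.range = 2 ^ n := by
    rw [← Nat.card_congr (MonoidHom.ofInjective hζ).toEquiv, Nat.card_congr Multiplicative.toAdd,
      Nat.card_eq_fintype_card, hF]
  have hidx : ¬ 2 ∣ ζ.range.index := by
    have h := ζ.range.card_mul_index
    have hc := Dickson.card_psl (F := F)
    rw [hdel, mul_one, ← Nat.card_congr eS.toEquiv, hF] at hc
    rw [hcζ, hc] at h
    rw [Nat.eq_of_mul_eq_mul_left (by positivity) h, Nat.prime_two.dvd_mul]
    have := hF ▸ heven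
    have : 0 < 2 ^ n := by positivity
    omega
  obtain ⟨D, hD⟩ := exists_torus_of_equiv M (e.trans eS.symm) ζ.range ζ.range δ.range
    (IsPGroup.of_card hcζ) hidx le_rfl
    (by rintro _ ⟨a, rfl⟩ _ ⟨b, rfl⟩; rw [← map_mul, ← map_mul, mul_comm])
    (by
      rintro _ ⟨b, rfl⟩
      refine ⟨fun _ => ⟨b, rfl⟩, fun _ => ?_⟩
      rw [← map_mul, show b * b = 1 from Multiplicative.toAdd.injective (CharTwo.add_self_eq_zero _),
        map_one])
    (by
      rintro _ ⟨c, rfl⟩ _ ⟨b, rfl⟩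
      refine ⟨Multiplicative.ofAdd ((c : F) * c * Multiplicative.toAdd b), ?_⟩
      show uMat _ = dMat c * uMat _ * (dMat c)⁻¹
      rw [dMat_uMat, mul_inv_cancel_right]
      rfl)
    (by rintro _ ⟨a, rfl⟩ _ ⟨b, rfl⟩; rw [← map_mul, ← map_mul, mul_comm])
    (by
      rw [hcζ, ← Nat.card_congr (MonoidHom.ofInjective hδ).toEquiv, Nat.card_units,
        Nat.card_eq_fintype_card, hF]
      have : 0 < 2 ^ n := by positivity
      omega)
    (by
      rintro _ ⟨b, rfl⟩ _ ⟨c, rfl⟩ hb hc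
      have hb0 : Multiplicative.toAdd b ≠ 0 := fun h => hb (by
        rw [show b = 1 from Multiplicative.toAdd.injective h, map_one])
      have hc0 : Multiplicative.toAdd c ≠ 0 := fun h => hc (by
        rw [show c = 1 from Multiplicative.toAdd.injective h, map_one])
      obtain ⟨x, hx⟩ := FiniteField.isSquare_of_char_two (F := F) (ringChar.eq F 2)
        (Multiplicative.toAdd c / Multiplicative.toAdd b)
      have hx0 : x ≠ 0 := fun h => div_ne_zero hc0 hb0 (by rw [hx, h, mul_zero])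
      refine ⟨_, ⟨Units.mk0 x hx0, rfl⟩, ?_⟩
      show dMat _ * uMat _ * (dMat _)⁻¹ = uMat _
      rw [dMat_uMat, mul_inv_cancel_right, Units.val_mk0, ← hx, div_mul_cancel₀ _ hb0])
  exact ⟨D, by rw [hD, hcζ]⟩

end Cfsg.Agent.Grp.PGCIT
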