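import Cfsg.Agent.Lib.Grp.PrimeGraphCIT.Models
import Cfsg.Agent.Lib.Grp.SuzIdent.CIT
import Cfsg.Agent.Lib.Grp.SolvableThreePrimes
import Cfsg.Agent.Lib.Transfer.CIT.PrimePowerSimple
import Cfsg.Agent.Lib.Recog.Zsigmondy
import Cfsg.Agent.Lib.Classical.DicksonFacts
import Cfsg.Agent.Lib.Grp.DisconnectedGraph
import Cfsg.Agent.Lib.Grp.TwoClassCore

/-!
Recognition of `PSL(2, 2^m)` and `Sz(q)` by the prime graph.
-/

set_option autoImplicit false
set_option linter.style.haveILetI false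
set_option linter.unusedSectionVars false

universe u

namespace Cfsg.Agent.Grp.PGCIT

open Subgroup Cfsg.Agent Cfsg.Agent.Transfer.CIT

theorem dvd_iff_ord {s e : ℕ} [Fact s.Prime] :
    s ∣ 2 ^ e - 1 ↔ orderOf ((2 : ℕ) : ZMod s) ∣ e := by
  rw [Recog.Zsigmondy.dvd_pow_sub_one_iff (by norm_num), orderOf_dvd_iff_pow_eq_one]

theorem primitive_ord {n p : ℕ} [Fact p.Prime] (hn : 1 ≤ n) (h : Recog.Zsigmondy.Primitive 2 n p) :
    orderOf ((2 : ℕ) : ZMod p) = n := by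
  have hd := dvd_iff_ord.1 h.2.1
  have hpos : 0 < orderOf ((2 : ℕ) : ZMod p) := Nat.pos_of_dvd_of_pos hd hn
  rcases (Nat.le_of_dvd hn hd).eq_or_lt with e | hlt
  · exact e
  · exact absurd (dvd_iff_ord.2 dvd_rfl) (h.2.2 _ hpos hlt)

theorem primitive_large {n p : ℕ} (hn : 1 ≤ n) (h : Recog.Zsigmondy.Primitive 2 n p) :
    p ≠ 2 ∧ n + 1 ≤ p := by
  haveI := Fact.mk h.1
  have h2 : p ≠ 2 := by
    rintro rfl
    have h1 : 2 ^ n % 2 = 0 := Nat.pow_mod 2 n 2 ▸ by simp [zero_pow (show n ≠ 0 by omega)]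
    have := h.2.1
    have : 0 < 2 ^ n := Nat.two_pow_pos n
    omega
  refine ⟨h2, ?_⟩
  have h0 : ((2 : ℕ) : ZMod p) ≠ 0 := fun e =>
    h2 ((Nat.prime_dvd_prime_iff_eq h.1 Nat.prime_two).1 ((ZMod.natCast_eq_zero_iff _ _).1 e))
  have hd := orderOf_dvd_of_pow_eq_one (ZMod.pow_card_sub_one_eq_one h0)
  rw [primitive_ord hn h] at hd
  have := h.1.two_le
  have := Nat.le_of_dvd (by omega) hd
  omega

theorem dvd_two_pow_gcd {s a b : ℕ} (ha : s ∣ 2 ^ a - 1) (hb : s ∣ 2 ^ b - 1) :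
    s ∣ 2 ^ Nat.gcd a b - 1 := by
  rw [← Nat.pow_sub_one_gcd_pow_sub_one]; exact Nat.dvd_gcd ha hb

variable {G : Type u} [Group G] [Finite G]

/-- The order of a Sylow 2-subgroup. -/
theorem card_sylow_eq {a b : ℕ} (hG : Nat.card G = 2 ^ a * b) (hb : ¬ 2 ∣ b) (S : Sylow 2 G) :
    Nat.card S = 2 ^ a := by
  haveI := Fact.mk Nat.prime_two
  have hb0 : b ≠ 0 := fun e => hb (e ▸ dvd_zero 2)
  rw [S.card_eq_multiplicity, hG, Nat.factorization_mul (by positivity) hb0, Finsupp.add_apply,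
    Nat.Prime.factorization_pow Nat.prime_two, Finsupp.single_eq_same,
    Nat.factorization_eq_zero_of_not_dvd hb, add_zero]

/-- A quotient of odd order by a nontrivial normal 2-subgroup is solvable. -/
theorem solvable_of_odd_quotient (h : IsCIT G) (R : Subgroup G) [R.Normal] (hR : IsPGroup 2 R)
    (hodd : ¬ 2 ∣ Nat.card (G ⧸ R)) (hR1 : R ≠ ⊥) : Group.IsSolvable (G ⧸ R) := by
  classical
  haveI := Fact.mk Nat.prime_two
  obtain ⟨k, hk⟩ := hR.exists_card_eq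
  obtain ⟨W, hW⟩ := exists_right_complement'_of_coprime (N := R) (by
    rw [hk, ← R.index_eq_card] at *
    exact Nat.Coprime.pow_left k (Nat.prime_two.coprime_iff_not_dvd.2 hodd))
  have hWc : Nat.card W = Nat.card (G ⧸ R) := by
    rw [← R.index_eq_card]; exact (hW.symm.index_eq_card).symm
  let f : W →* G ⧸ R := (QuotientGroup.mk' R).comp W.subtype
  have hf : Function.Surjective f := by
    intro x
    obtain ⟨g, rfl⟩ := QuotientGroup.mk_surjective x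
    obtain ⟨⟨⟨r, hr⟩, w⟩, hrw⟩ := hW.2 g
    refine ⟨w, ?_⟩
    show ((w : G) : G ⧸ R) = (g : G ⧸ R)
    rw [← hrw, QuotientGroup.mk_mul, (QuotientGroup.eq_one_iff r).2 hr, one_mul]
  suffices hWs : Group.IsSolvable W by
    haveI := hWs
    exact Group.isSolvable_of_surjective hf
  by_cases hW1 : W = ⊥
  · subst hW1; infer_instance
  have hmix : Cfsg.Agent.Grp.Graph.NoMix ({2} : Set ℕ) G := by
    intro a b ha hb ha2 hb2 g hg
    obtain rfl : a = 2 := ha2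
    obtain ⟨j, hj⟩ := even_order h (g := g) (hg ▸ dvd_mul_right 2 b)
    exact hb2 ((Nat.prime_dvd_prime_iff_eq hb Nat.prime_two).1
      (hb.dvd_of_dvd_pow (hj ▸ hg ▸ dvd_mul_left b 2)))
  obtain ⟨hF, -⟩ := Cfsg.Agent.Grp.Graph.frobenius hmix (N := R) (H := W)
    (fun r hr hrd => (Nat.prime_dvd_prime_iff_eq hr Nat.prime_two).1 (hr.dvd_of_dvd_pow (hk ▸ hrd)))
    (fun r hr hrd h2 => hodd (by
      obtain rfl : r = 2 := h2
      rwa [hWc] at hrd))
    hR1 hW1 hW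
  exact (Cfsg.Agent.Grp.Zas.hasFpf_of_complement hF).isSolvable_of_odd
    (Nat.not_even_iff_odd.1 fun he => hodd (hWc ▸ he.two_dvd))

/-- Passing to the quotient by the 2-core. -/
theorem quotient_props (h : IsCIT G) (hns : ¬ Group.IsSolvable G) (h2 : 2 ∣ Nat.card G) :
    IsCIT (G ⧸ Cfsg.pCore 2 G) ∧ ¬ Group.IsSolvable (G ⧸ Cfsg.pCore 2 G) ∧
      2 ∣ Nat.card (G ⧸ Cfsg.pCore 2 G) ∧
      (∃ M : Subgroup (G ⧸ Cfsg.pCore 2 G), M.Normal ∧ IsSimpleGroup M ∧ ¬ IsMulCommutative M) ∧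
      (∀ s : ℕ, s.Prime → s ≠ 2 → (s ∣ Nat.card G ↔ s ∣ Nat.card (G ⧸ Cfsg.pCore 2 G))) ∧
      (∀ x : G ⧸ Cfsg.pCore 2 G, ∃ y : G, orderOf x ∣ orderOf y) := by
  classical
  haveI := Fact.mk Nat.prime_two
  set R := Cfsg.pCore 2 G with hR
  have hp : IsPGroup 2 R := Cfsg.Agent.Grp.pCore_isPGroup
  obtain ⟨k, hk⟩ := hp.exists_card_eq
  haveI : Group.IsNilpotent R := hp.isNilpotent
  have hns' : ¬ Group.IsSolvable (G ⧸ R) := fun hs =>
    hns ((Group.isSolvable_iff_subgroup_quotient R).mpr ⟨inferInstance, hs⟩)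
  have hcard : Nat.card G = Nat.card (G ⧸ R) * Nat.card R := R.card_eq_card_quotient_mul_card_subgroup
  have hc := quot h R
  have h2' : 2 ∣ Nat.card (G ⧸ R) := by
    by_contra hodd
    exact hns' (solvable_of_odd_quotient h R hp hodd (fun e => hodd (by
      have h1 : Nat.card R = 1 := Subgroup.card_eq_one.2 e
      rwa [hcard, h1, mul_one] at h2)))
  refine ⟨hc, hns', h2', ?_, fun s hs hs2 => ?_, fun x => ?_⟩
  · have hbot : Cfsg.pCore 2 (G ⧸ R) = ⊥ := Grp.TwoClassCore.pCore_quotient_eq_bot R hp rfl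
    exact exists_simple_normal hc hns' h2' fun N hN hsol =>
      @radical_trivial _ _ _ hc hns' h2' hbot N hN hsol
  · rw [hcard, hk]
    exact ⟨fun hd => (hs.dvd_mul.1 hd).resolve_right fun hd => hs2
      ((Nat.prime_dvd_prime_iff_eq hs Nat.prime_two).1 (hs.dvd_of_dvd_pow hd)),
      fun hd => hd.mul_right _⟩
  · obtain ⟨g, rfl⟩ := QuotientGroup.mk_surjective x
    exact ⟨g, orderOf_map_dvd (QuotientGroup.mk' R) g⟩

end Cfsg.Agent.Grp.PGCIT
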