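import Cfsg.Agent.Lib.Grp.PrimeGraphCIT.Recog
import Cfsg.Agent.Lib.Spor.M21Psl
import Cfsg.Agent.Lib.Lie.Sz.FieldMap
import Cfsg.Agent.Lib.Lie.Sz.Classes

/-!
The two recognition theorems.
-/

set_option autoImplicit false
set_option linter.style.haveILetI false
set_option linter.unusedSectionVars false

universe u v

namespace Cfsg.Agent.Grp.PGCIT

open Subgroup Cfsg.Agent Cfsg.Agent.Transfer.CIT

/-- The prime graphs agree. -/
def SameGraph (Q : Type v) (G : Type u) [Group Q] [Group G] : Prop :=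
  (∀ r : ℕ, r.Prime → (r ∣ Nat.card Q ↔ r ∣ Nat.card G)) ∧
    (∀ r s : ℕ, r.Prime → s.Prime → r ≠ s → ((∃ x : Q, orderOf x = r * s) ↔ (∃ y : G, orderOf y = r * s)))

variable {G : Type u} [Group G] [Finite G] {Q : Type v} [Group Q] [Finite Q]

theorem SameGraph.cit (h : SameGraph Q G)
    (hQ : ∀ x : Q, 2 ∣ orderOf x → ∃ k : ℕ, orderOf x = 2 ^ k) : IsCIT G := by
  refine isCIT_of_even fun g hg => ?_
  refine ⟨(orderOf g).primeFactorsList.length,
    Nat.eq_prime_pow_of_unique_prime_dvd (orderOf_pos g).ne' fun {r} hr hrd => ?_⟩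
  by_contra hr2
  have hd : 2 * r ∣ orderOf g :=
    ((Nat.coprime_primes Nat.prime_two hr).2 (Ne.symm hr2)).mul_dvd_of_dvd_of_dvd hg hrd
  obtain ⟨x, hx⟩ := (h.2 2 r Nat.prime_two hr (Ne.symm hr2)).2
    ⟨_, orderOf_pow_orderOf_div (orderOf_pos g).ne' hd⟩
  obtain ⟨k, hk⟩ := hQ x (hx ▸ dvd_mul_right 2 r)
  exact hr2 ((Nat.prime_dvd_prime_iff_eq hr Nat.prime_two).1
    (hr.dvd_of_dvd_pow (hk ▸ hx ▸ dvd_mul_left r 2)))

theorem SameGraph.not_solvable (h : SameGraph Q G) {r s : ℕ} (hr : r.Prime) (hs : s.Prime) (hr2 : r ≠ 2)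
    (hs2 : s ≠ 2) (hrs : r ≠ s) (h2 : 2 ∣ Nat.card Q) (hrd : r ∣ Nat.card Q) (hsd : s ∣ Nat.card Q)
    (hQ : ∀ x : Q, orderOf x ≠ r * s) (hQ2 : ∀ x : Q, 2 ∣ orderOf x → ∃ k : ℕ, orderOf x = 2 ^ k) :
    ¬ Group.IsSolvable G := by
  intro hsol
  have hno2 : ∀ t : ℕ, t.Prime → t ≠ 2 → ∀ g : G, orderOf g ≠ 2 * t := by
    intro t ht ht2 g hg
    obtain ⟨x, hx⟩ := (h.2 2 t Nat.prime_two ht (Ne.symm ht2)).2 ⟨g, hg⟩
    obtain ⟨k, hk⟩ := hQ2 x (hx ▸ dvd_mul_right 2 t)
    exact ht2 ((Nat.prime_dvd_prime_iff_eq ht Nat.prime_two).1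
      (ht.dvd_of_dvd_pow (hk ▸ hx ▸ dvd_mul_left t 2)))
  rcases ThreePrimes.exists_edge (G := G) Nat.prime_two hr hs (Ne.symm hr2) (Ne.symm hs2) hrs
      ((h.1 2 Nat.prime_two).1 h2) ((h.1 r hr).1 hrd) ((h.1 s hs).1 hsd) with ⟨g, hg⟩ | ⟨g, hg⟩ | ⟨g, hg⟩
  · exact hno2 r hr hr2 g hg
  · exact hno2 s hs hs2 g hg
  · obtain ⟨x, hx⟩ := (h.2 r s hr hs hrs).2 ⟨g, hg⟩
    exact hQ x hx

section Cases

variable {X : Type u} [Group X] [Finite X]

/-- The orders of the small simple groups that occur. -/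
def SmallOrder (c : ℕ) : Prop :=
  c = 60 ∨ c = 360 ∨ c = 20160 ∨
    (∃ k : ℕ, 2 ≤ k ∧ (2 ^ k + 1).Prime ∧ c = 2 ^ k * ((2 ^ k + 1) * (2 ^ (k - 1) + 1))) ∨
    (∃ k : ℕ, 3 ≤ k ∧ (2 ^ k - 1).Prime ∧ c = 2 ^ k * ((2 ^ k - 1) * (2 ^ (k - 1) - 1)))

/-- The simple normal subgroups of a group with trivial radical. -/
theorem cases_simple (h : IsCIT X) (M : Subgroup X) [hMn : M.Normal] [IsSimpleGroup M]
    (hM : ¬ IsMulCommutative M) :
    (∃ (F : Type) (_ : Field F) (_ : Fintype F) (m : ℕ), Suz.SzField F m ∧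
        Nonempty (X ≃* ↥(Cfsg.Sz F m))) ∨
    (∃ (F : Type) (_ : Field F) (_ : Fintype F) (n : ℕ), 3 ≤ n ∧ Fintype.card F = 2 ^ n ∧
        Nonempty (X ≃* Matrix.ProjectiveSpecialLinearGroup (Fin 2) F)) ∨
    (SmallOrder (Nat.card M) ∧ 3 ∣ Nat.card M) := by
  classical
  have topEq : M = ⊤ → Nonempty (X ≃* M) := fun e =>
    ⟨(Subgroup.topEquiv.symm).trans (MulEquiv.subgroupCongr e.symm)⟩
  rcases (h.subgroup M).classification_iso hM with ⟨F, i1, i2, hF, ⟨e⟩⟩ | ⟨F, i1, i2, hF, ⟨e⟩⟩ |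
    ⟨F, i1, i2, m, hm, hF, ⟨e⟩⟩
  · have h4 := four_le_card_field hM e
    have hc := Dickson.card_psl (F := F)
    rw [← Nat.card_congr e.toEquiv, show Dickson.del F = Nat.gcd 2 (Fintype.card F - 1) from rfl] at hc
    rcases hF with hq | ⟨n, hq⟩ | ⟨hp, k, hk⟩
    · rw [hq] at hc
      norm_num at hc
      exact Or.inr (Or.inr ⟨Or.inr (Or.inl (by omega)), by omega⟩)
    · rcases Nat.lt_or_ge n 3 with hn | hn
      · have hn2 : n = 2 := by
          rw [hq] at h4
          interval_cases n <;> simp at h4 ⊢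
        rw [hq, hn2] at hc
        norm_num at hc
        exact Or.inr (Or.inr ⟨Or.inl hc, by omega⟩)
      · obtain ⟨D, hD⟩ := exists_torus_psl M (by omega : n ≠ 0) hq e
        have hlt : 4 < Nat.card D.Z := by
          rw [hD]
          calc 4 < 2 ^ 3 := by norm_num
            _ ≤ 2 ^ n := Nat.pow_le_pow_right (by norm_num) hn
        obtain ⟨e'⟩ := topEq (top_of_torus h M D hlt)
        exact Or.inr (Or.inl ⟨F, i1, i2, n, hn, hq, ⟨e'.trans e⟩⟩)
    · refine Or.inr (Or.inr ?_)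
      have h3 : ∀ q : ℕ, 3 ∣ q * ((q - 1) * (q + 1)) := fun q => by
        rcases (show q % 3 = 0 ∨ (q - 1) % 3 = 0 ∨ (q + 1) % 3 = 0 by omega) with e | e | e
        · exact (Nat.dvd_of_mod_eq_zero e).mul_right _
        · exact ((Nat.dvd_of_mod_eq_zero e).mul_right _).mul_left _
        · exact ((Nat.dvd_of_mod_eq_zero e).mul_left _).mul_left _
      have hd3 : 3 ∣ Nat.card M := by
        have h' := hc ▸ h3 (Fintype.card F)
        rcases (Nat.prime_three.dvd_mul).1 h' with e | e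
        · exact e
        · have := Nat.le_of_dvd (Nat.gcd_pos_of_pos_left _ (by norm_num)) e
          have := Nat.le_of_dvd (by norm_num) (Nat.gcd_dvd_left 2 (Fintype.card F - 1))
          omega
      refine ⟨Or.inr (Or.inr (Or.inr ?_)), hd3⟩
      obtain ⟨a, ha⟩ : ∃ a, k = a + 1 := ⟨k - 1, by
        rcases k with _ | k
        · simp at hk; omega
        · omega⟩
      subst ha
      have hpos : 0 < 2 ^ a := by positivity
      have hgcd : Nat.gcd 2 (Fintype.card F - 1) = 2 := Nat.gcd_eq_left (by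
        rcases hk with hk | hk <;> rw [pow_succ] at hk <;> omega)
      rw [hgcd] at hc
      rcases hk with hk | hk
      · left
        refine ⟨a + 1, ?_, hk ▸ hp, ?_⟩
        · rcases a with _ | a
          · simp at hk; omega
          · omega
        · rw [hk, pow_succ] at hc
          simp only [Nat.add_sub_cancel] at hc ⊢
          rw [pow_succ]
          nlinarith
      · right
        refine ⟨a + 1, ?_, (show Fintype.card F = 2 ^ (a + 1) - 1 by omega) ▸ hp, ?_⟩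
        · rcases a with _ | _ | a
          · simp at hk; omega
          · simp at hk; omega
          · omega
        · have e1 : Fintype.card F = 2 ^ (a + 1) - 1 := by omega
          obtain ⟨b, hb⟩ : ∃ b, 2 ^ a = b + 1 := ⟨2 ^ a - 1, by omega⟩
          rw [e1, pow_succ, hb] at hc
          simp only [Nat.add_sub_cancel]
          rw [pow_succ, hb, show (b + 1) * 2 - 1 = 2 * b + 1 by omega, show b + 1 - 1 = b by omega]
          rw [show (b + 1) * 2 - 1 = 2 * b + 1 by omega, show 2 * b + 1 - 1 = 2 * b by omega] at hc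
          nlinarith
  · have hc : Nat.card M = 20160 := by rw [Nat.card_congr e.toEquiv, Spor.M21.natCard_psl hF]
    exact Or.inr (Or.inr ⟨Or.inr (Or.inr (Or.inl hc)), by rw [hc]; norm_num⟩)
  · have hS : Suz.SzField F m := ⟨hm, hF⟩
    let e0 : M ≃* ↥(Cfsg.Sz F m) := e.trans (Suz.szEquiv hS).symm
    obtain ⟨D, hD⟩ := exists_torus_suzuki M hS e0
    have hlt : 4 < Nat.card D.Z := by
      rw [hD, ← hS.card]; have := Suz.eight_le hS; omega
    obtain ⟨e'⟩ := topEq (top_of_torus h M D hlt)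
    exact Or.inl ⟨F, i1, i2, m, hS, ⟨e'.trans e0⟩⟩

end Cases

/-- The odd prime divisors of `PSL(2, 2^m)`. -/
theorem psl_primes {F : Type v} [Field F] [Fintype F] {m : ℕ} (hm : m ≠ 0) (hF : Fintype.card F = 2 ^ m) :
    Nat.card (Matrix.ProjectiveSpecialLinearGroup (Fin 2) F) = 2 ^ m * (2 ^ (2 * m) - 1) := by
  have hc := Dickson.card_psl (F := F)
  have hdel : Dickson.del F = 1 := by
    rcases Dickson.del_cases (F := F) with ⟨h, -⟩ | ⟨-, ⟨j, hj⟩⟩
    · exact h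
    · rw [hF] at hj
      obtain ⟨i, hi⟩ : 2 ∣ 2 ^ m := dvd_pow_self 2 hm
      omega
  rw [hdel, mul_one, hF] at hc
  rw [hc, mul_comm 2 m, pow_mul, ← one_pow 2, Nat.sq_sub_sq, one_pow, mul_comm (2 ^ m - 1)]

theorem dvd_two_pow_mul {s a b : ℕ} (hs : s.Prime) (hs2 : s ≠ 2) : s ∣ 2 ^ a * b ↔ s ∣ b := by
  refine ⟨fun h => (hs.dvd_mul.1 h).resolve_left fun h => hs2
    ((Nat.prime_dvd_prime_iff_eq hs Nat.prime_two).1 (hs.dvd_of_dvd_pow h)), fun h => h.mul_left _⟩

/-- The order of a Suzuki group. -/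
theorem sz_primes {F : Type v} [Field F] [Fintype F] {m : ℕ} (hS : Suz.SzField F m) :
    Nat.card ↥(Cfsg.Sz F m) = 2 ^ ((2 * m + 1) * 2) * ((2 ^ (2 * (2 * m + 1)) + 1) * (2 ^ (2 * m + 1) - 1)) := by
  rw [Suz.card_Sz hS, pow_mul, mul_comm 2 (2 * m + 1), pow_mul, mul_assoc]

theorem three_dvd_two_pow (m : ℕ) : 3 ∣ 2 ^ (2 * m) - 1 := by
  have := Nat.sub_dvd_pow_sub_pow 4 1 m
  rw [one_pow] at this
  rw [pow_mul]
  exact this

theorem three_not_sz (m : ℕ) : ¬ 3 ∣ (2 ^ (2 * (2 * m + 1)) + 1) * (2 ^ (2 * m + 1) - 1) := by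
  have h1 : 2 ^ (2 * (2 * m + 1)) % 3 = 1 := by rw [pow_mul, Nat.pow_mod]; norm_num
  have h2 : 2 ^ (2 * m + 1) % 3 = 2 := by
    rw [pow_succ, pow_mul, Nat.mul_mod, Nat.pow_mod]; norm_num
  generalize 2 ^ (2 * (2 * m + 1)) = a at h1 ⊢
  generalize 2 ^ (2 * m + 1) = b at h2 ⊢
  intro h
  rcases Nat.prime_three.dvd_mul.1 h with h | h <;> omega

/-- An element centralising a Sylow subgroup of prime order. -/
theorem exists_orderOf_mul {X : Type u} [Group X] [Finite X] (_h : IsCIT X) (M : Subgroup X) [M.Normal]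
    {q s : ℕ} [hq : Fact q.Prime] (hs : s.Prime) (hd : s ∣ Nat.card X) (hsM : ¬ s ∣ Nat.card M)
    (hqM : q ∣ Nat.card M) (hqM2 : ¬ q * q ∣ Nat.card M) (hsq : ¬ s ∣ q - 1) :
    ∃ y : X, orderOf y = s * q := by
  classical
  haveI := Fact.mk hs
  obtain ⟨P0⟩ : Nonempty (Sylow q M) := inferInstance
  have hP0 : Nat.card P0 = q := by
    obtain ⟨j, hj⟩ := P0.isPGroup'.exists_card_eq
    have h1 := P0.dvd_card_of_dvd_card hqM
    have h2 := hj ▸ card_subgroup_dvd_card (P0 : Subgroup M)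
    rcases j with _ | _ | j
    · rw [hj, pow_zero] at h1; exact absurd (Nat.dvd_one.1 h1) hq.out.ne_one
    · rw [hj, pow_one]
    · exact absurd ((dvd_mul_right (q * q) (q ^ j)).trans (by
        rwa [show q * q * q ^ j = q ^ (j + 1 + 1) by ring])) hqM2
  set P := (P0 : Subgroup M).map M.subtype with hPdef
  have hP : Nat.card P = q := by rw [hPdef, card_map_of_injective M.subtype_injective, hP0]
  set N := normalizer (P : Set X) with hN
  have hidx : s ∣ M.index := by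
    rw [← M.card_mul_index] at hd
    exact (hs.dvd_mul.1 hd).resolve_left hsM
  have hsN : s ∣ Nat.card N := by
    rw [← (M.subgroupOf N).card_mul_index]
    refine dvd_mul_of_dvd_right ?_ _
    show s ∣ M.relIndex N
    have hfr := Sylow.normalizer_sup_eq_top P0
    rwa [hN, hPdef, show M.relIndex (normalizer (((P0 : Subgroup M).map M.subtype : Subgroup X) : Set X)) =
      M.index by rw [← relIndex_top_right, ← hfr]; exact (relIndex_sup_right _ M).symm]
  obtain ⟨x, hx⟩ := exists_prime_orderOf_dvd_card' s hsN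
  obtain ⟨a, ha⟩ := exists_prime_orderOf_dvd_card' (G := P) q hP.symm.dvd
  haveI : IsCyclic P := isCyclic_of_prime_card hP
  have hker : (normalizerMonoidHom P) x = 1 := by
    rw [← orderOf_eq_one_iff]
    refine Nat.eq_one_of_dvd_coprimes ((hs.coprime_iff_not_dvd).2 hsq)
      ((orderOf_map_dvd (normalizerMonoidHom P) x).trans hx.dvd) ?_
    refine (_root_.orderOf_dvd_natCard _).trans ?_
    rw [Nat.card_congr (IsCyclic.mulAutMulEquiv P).toEquiv, hP, Nat.card_eq_fintype_card,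
      ZMod.card_units_eq_totient, Nat.totient_prime hq.out]
  have hc : Commute (x : X) (a : X) := mul_inv_eq_iff_eq_mul.mp (congrArg
    (fun e : MulAut P => ((e a : P) : X)) hker)
  refine ⟨x * a, ?_⟩
  rw [hc.orderOf_mul_eq_mul_orderOf_of_coprime (by
    rw [orderOf_coe, orderOf_coe, hx, ha]
    exact (Nat.coprime_primes hs hq.out).2 fun e => hsM (e ▸ hqM)), orderOf_coe, orderOf_coe, hx, ha]

/-- A simple normal subgroup of small order is impossible. -/
theorem small_absurd {X : Type u} [Group X] [Finite X] (h : IsCIT X) (M : Subgroup X) [M.Normal]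
    {m : ℕ} (hm : 4 ≤ m) (hodd : ∀ s : ℕ, s.Prime → s ≠ 2 → (s ∣ Nat.card X ↔ s ∣ 2 ^ (2 * m) - 1))
    (hno : m = 4 → ∀ x : X, orderOf x ≠ 5 * 17)
    (hc : SmallOrder (Nat.card M)) : False := by
  classical
  haveI := Fact.mk Nat.prime_two
  obtain ⟨p, hp⟩ := Recog.Zsigmondy.exists_primitive (a := 2) (n := 2 * m) le_rfl (by omega) (by omega) (by omega)
  obtain ⟨hp2, hple⟩ := primitive_large (by omega) hp
  have hpX : p ∣ Nat.card X := (hodd p hp.1 hp2).2 hp.2.1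
  haveI := Fact.mk hp.1
  have hordp := primitive_ord (by omega) hp
  have pdvd : ∀ e, p ∣ 2 ^ e - 1 → 2 * m ∣ e := fun e he => hordp ▸ dvd_iff_ord.1 he
  obtain ⟨S⟩ : Nonempty (Sylow 2 M) := inferInstance
  have main : p ∣ Nat.card M ∨ p ∣ Nat.card S - 1 := by
    by_cases hd : p ∣ Nat.card M
    · exact Or.inl hd
    · exact Or.inr (dvd_card_sub_one h M S hp.1 hp2 hpX hd)
  have fixed : ∀ a b : ℕ, Nat.card M = 2 ^ a * b → ¬ 2 ∣ b → (∀ q : ℕ, q.Prime → q ∣ b → q ≤ 7) →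
      (∀ q : ℕ, q.Prime → q ∣ 2 ^ a - 1 → q ≤ 7) → False := by
    intro a b hab hb h1 h2
    rw [card_sylow_eq hab hb S, hab, dvd_two_pow_mul hp.1 hp2] at main
    rcases main with e | e
    · have := h1 p hp.1 e; omega
    · have := h2 p hp.1 e; omega
  have prime_le : ∀ n : ℕ, 0 < n → ∀ q : ℕ, q.Prime → q ∣ n →
      (∀ d ∈ Finset.Icc 8 n, d.Prime → ¬ d ∣ n) → q ≤ 7 := by
    intro n hn q hq hqn hall
    by_contra hc'
    exact hall q (Finset.mem_Icc.2 ⟨by omega, Nat.le_of_dvd hn hqn⟩) hq hqn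
  have small : ∀ n : ℕ, n ∈ ([1, 3, 5, 7, 15, 45, 63, 315] : List ℕ) → ∀ q : ℕ, q.Prime → q ∣ n → q ≤ 7 := by
    intro n hn q hq hqn
    have h315 : q ∣ 3 ^ 2 * 5 * 7 := by
      refine hqn.trans ?_
      simp only [List.mem_cons, List.not_mem_nil, or_false] at hn
      rcases hn with rfl | rfl | rfl | rfl | rfl | rfl | rfl | rfl <;> norm_num
    rcases hq.dvd_mul.1 h315 with h35 | h7
    · rcases hq.dvd_mul.1 h35 with h3 | h5
      · have := Nat.le_of_dvd (by norm_num) (hq.dvd_of_dvd_pow h3); omega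
      · have := Nat.le_of_dvd (by norm_num) h5; omega
    · exact Nat.le_of_dvd (by norm_num) h7
  rcases hc with hc | hc | hc | ⟨k, hk2, hP, hc⟩ | ⟨k, hk3, hP, hc⟩
  · exact fixed 2 15 (by rw [hc]; norm_num) (by norm_num) (small 15 (by simp)) (small _ (by norm_num))
  · exact fixed 3 45 (by rw [hc]; norm_num) (by norm_num) (small 45 (by simp)) (small _ (by norm_num))
  · exact fixed 6 315 (by rw [hc]; norm_num) (by norm_num) (small 315 (by simp)) (small _ (by norm_num))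
  · -- a Fermat number
    obtain ⟨l, rfl⟩ : ∃ l, k = l + 1 := ⟨k - 1, by omega⟩
    simp only [Nat.add_sub_cancel] at hc
    obtain ⟨j, hj⟩ : 2 ∣ 2 ^ l := dvd_pow_self 2 (by omega)
    have hpow : 2 ^ (l + 1) = 2 * 2 ^ l := by rw [pow_succ, mul_comm]
    have hb : ¬ 2 ∣ (2 ^ (l + 1) + 1) * (2 ^ l + 1) := by
      rw [Nat.prime_two.dvd_mul]; omega
    rw [card_sylow_eq hc hb S, hc, dvd_two_pow_mul hp.1 hp2, hp.1.dvd_mul] at main
    have hdvd : ∀ a : ℕ, 2 ^ a + 1 ∣ 2 ^ (2 * a) - 1 := fun a => by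
      rw [mul_comm, pow_mul, ← one_pow 2, Nat.sq_sub_sq, one_pow]; exact dvd_mul_right _ _
    have hX : ∀ q : ℕ, q.Prime → q ≠ 2 → q ∣ (2 ^ (l + 1) + 1) * (2 ^ l + 1) → q ∣ 2 ^ (2 * m) - 1 :=
      fun q hq hq2 hqd => (hodd q hq hq2).1 ((hc ▸ hqd.mul_left _).trans (card_subgroup_dvd_card M))
    -- the prime `p` divides `2^(2(l+1)) - 1` or `2^(2l) - 1`
    have hml : 2 * m ∣ 2 * (l + 1) ∨ 2 * m ∣ 2 * l := by
      rcases main with (e | e) | e
      · exact Or.inl (pdvd _ (e.trans (hdvd (l + 1))))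
      · exact Or.inr (pdvd _ (e.trans (hdvd l)))
      · refine Or.inl (pdvd _ (e.trans ?_))
        have := Nat.pow_sub_one_dvd_pow_sub_one 2 (dvd_mul_left (l + 1) 2)
        exact this
    -- the prime `2^(l+1) + 1` has order twice `l + 1`
    have hPd : 2 ^ (l + 1) + 1 ∣ 2 ^ (2 * m) - 1 := hX _ hP (by omega) (dvd_mul_right _ _)
    have hg : Nat.gcd (2 * m) (2 * (l + 1)) = 2 * (l + 1) := by
      have h1 := dvd_two_pow_gcd hPd (hdvd (l + 1))
      obtain ⟨c, hc'⟩ := Nat.gcd_dvd_right (2 * m) (2 * (l + 1))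
      have hlt : l + 1 < Nat.gcd (2 * m) (2 * (l + 1)) := by
        by_contra hge
        push Not at hge
        have h2 : 2 ^ Nat.gcd (2 * m) (2 * (l + 1)) ≤ 2 ^ (l + 1) := Nat.pow_le_pow_right (by norm_num) hge
        have h3 := Nat.le_of_dvd (by
          have : 2 ≤ 2 ^ Nat.gcd (2 * m) (2 * (l + 1)) :=
            Nat.le_self_pow (Nat.gcd_pos_of_pos_left _ (by omega)).ne' 2
          omega) h1
        omega
      rcases c with _ | _ | c
      · omega
      · omega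
      · exfalso; nlinarith
    have hlm : l + 1 ∣ m := Nat.dvd_of_mul_dvd_mul_left (by norm_num) (hg ▸ Nat.gcd_dvd_left _ _)
    have hml' : m = l + 1 := by
      rcases hml with e | e
      · exact Nat.dvd_antisymm (Nat.dvd_of_mul_dvd_mul_left (by norm_num) e) hlm
      · have := Nat.le_of_dvd (by omega) (hlm.trans (Nat.dvd_of_mul_dvd_mul_left (by norm_num) e))
        omega
    subst hml'
    -- every prime of `2^l + 1` is three
    have h3 : 2 ^ l + 1 = 3 ^ (2 ^ l + 1).primeFactorsList.length := by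
      refine Nat.eq_prime_pow_of_unique_prime_dvd (by omega) fun {r} hr hrd => ?_
      have hr2 : r ≠ 2 := by rintro rfl; omega
      have h1 := dvd_two_pow_gcd (hX r hr hr2 (hrd.mul_left _)) (hrd.trans (hdvd l))
      rw [Nat.gcd_mul_left, show Nat.gcd (l + 1) l = 1 by
        rw [Nat.gcd_comm]; simp] at h1
      exact (Nat.prime_dvd_prime_iff_eq hr Nat.prime_three).1 h1
    rcases two_pow_add_one_eq_three_pow (fun e => by rw [e, pow_zero] at h3; have := Nat.two_pow_pos l; omega) h3 with rfl | rfl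
    · omega
    haveI : Fact (Nat.Prime 17) := ⟨by norm_num⟩
    have h5 : 5 ∣ Nat.card X := (hodd 5 (by norm_num) (by norm_num)).2 (by norm_num)
    obtain ⟨y, hy⟩ := exists_orderOf_mul h M (q := 17) (s := 5) (by norm_num) h5
      (by rw [hc]; norm_num) (by rw [hc]; norm_num) (by rw [hc]; norm_num) (by norm_num)
    exact hno rfl y hy
  · -- a Mersenne number
    obtain ⟨l, rfl⟩ : ∃ l, k = l + 1 := ⟨k - 1, by omega⟩
    simp only [Nat.add_sub_cancel] at hc
    obtain ⟨j, hj⟩ : 2 ∣ 2 ^ l := dvd_pow_self 2 (by omega)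
    have hl4 : 4 ≤ 2 ^ l := by
      calc 4 = 2 ^ 2 := rfl
        _ ≤ 2 ^ l := Nat.pow_le_pow_right (by norm_num) (by omega)
    have hpow : 2 ^ (l + 1) = 2 * 2 ^ l := by rw [pow_succ, mul_comm]
    have hb : ¬ 2 ∣ (2 ^ (l + 1) - 1) * (2 ^ l - 1) := by
      rw [Nat.prime_two.dvd_mul]; omega
    rw [card_sylow_eq hc hb S, hc, dvd_two_pow_mul hp.1 hp2, hp.1.dvd_mul] at main
    have hX : ∀ q : ℕ, q.Prime → q ≠ 2 → q ∣ (2 ^ (l + 1) - 1) * (2 ^ l - 1) → q ∣ 2 ^ (2 * m) - 1 :=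
      fun q hq hq2 hqd => (hodd q hq hq2).1 ((hc ▸ hqd.mul_left _).trans (card_subgroup_dvd_card M))
    have hPd : 2 ^ (l + 1) - 1 ∣ 2 ^ (2 * m) - 1 := hX _ hP (by omega) (dvd_mul_right _ _)
    have hlm : l + 1 ∣ 2 * m := by
      have h1 := dvd_two_pow_gcd hPd dvd_rfl
      have hle := Nat.le_of_dvd (by omega) (Nat.gcd_dvd_right (2 * m) (l + 1))
      rcases hle.eq_or_lt with e | e
      · exact e ▸ Nat.gcd_dvd_left _ _
      · exfalso
        have h2 : 2 ^ Nat.gcd (2 * m) (l + 1) < 2 ^ (l + 1) := Nat.pow_lt_pow_right (by norm_num) e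
        have h3 := Nat.le_of_dvd (by
          have : 2 ≤ 2 ^ Nat.gcd (2 * m) (l + 1) :=
            Nat.le_self_pow (Nat.gcd_pos_of_pos_left _ (by omega)).ne' 2
          omega) h1
        omega
    have hml : 2 * m = l + 1 := by
      rcases main with (e | e) | e
      · exact Nat.dvd_antisymm (pdvd _ e) hlm
      · exfalso
        have := Nat.le_of_dvd (by omega) (hlm.trans (pdvd _ e))
        omega
      · exact Nat.dvd_antisymm (pdvd _ e) hlm
    obtain ⟨r, hr, hrd⟩ := Nat.exists_prime_and_dvd (show 2 ^ l - 1 ≠ 1 by omega)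
    have hr2 : r ≠ 2 := by rintro rfl; omega
    have h1 := dvd_two_pow_gcd (hml ▸ hX r hr hr2 (hrd.mul_left _)) hrd
    rw [show Nat.gcd (l + 1) l = 1 by rw [Nat.gcd_comm]; simp] at h1
    exact hr.ne_one (Nat.dvd_one.1 h1)

end Cfsg.Agent.Grp.PGCIT
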