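import Mathlib
import Cfsg.Agent.Lib.Transfer.CIT.Basic
import Cfsg.Agent.Lib.Grp.PrimePowerOrders
import Cfsg.Agent.Lib.Grp.Solvable
import Cfsg.Agent.Lib.Transfer.CIT.EPPOFour

/-!
The structure of a nonsolvable group in which involution centralisers are 2-groups.
-/

set_option autoImplicit false
set_option linter.style.haveILetI false
set_option linter.unusedSectionVars false

universe u

namespace Cfsg.Agent.Grp.PGCIT

open Subgroup Cfsg.Agent Cfsg.Agent.Transfer.CIT

variable {G : Type u} [Group G] [Finite G]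

theorem isCIT_of_even (h : ∀ g : G, 2 ∣ orderOf g → ∃ k : ℕ, orderOf g = 2 ^ k) : IsCIT G := by
  intro t ht
  rw [IsPGroup.iff_orderOf]
  rintro ⟨x, hx⟩
  rw [orderOf_mk]
  by_cases h2 : 2 ∣ orderOf x
  · exact h x h2
  · have hc : Commute x t := mem_centralizer_singleton_iff.1 hx
    have hcop : (orderOf x).Coprime (orderOf t) := by
      rw [ht]; exact (Nat.prime_two.coprime_iff_not_dvd.2 h2).symm
    obtain ⟨k, hk⟩ := h (x * t) (by
      rw [hc.orderOf_mul_eq_mul_orderOf_of_coprime hcop, ht]; exact dvd_mul_left _ _)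
    rw [hc.orderOf_mul_eq_mul_orderOf_of_coprime hcop] at hk
    obtain ⟨j, -, hj⟩ := (Nat.dvd_prime_pow Nat.prime_two).1 (hk ▸ dvd_mul_right (orderOf x) (orderOf t))
    exact ⟨j, hj⟩

theorem even_order (h : IsCIT G) {g : G} (hg : 2 ∣ orderOf g) : ∃ k : ℕ, orderOf g = 2 ^ k :=
  h.orderOf_two_pow (orderOf_pow_orderOf_div (orderOf_pos g).ne' hg) (Commute.self_pow g _)

theorem quot (h : IsCIT G) (N : Subgroup G) [N.Normal] : IsCIT (G ⧸ N) := by
  refine isCIT_of_even fun x hx => ?_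
  obtain ⟨g, rfl⟩ := QuotientGroup.mk_surjective x
  have hd : orderOf (g : G ⧸ N) ∣ orderOf g := orderOf_map_dvd (QuotientGroup.mk' N) g
  obtain ⟨k, hk⟩ := even_order h (hx.trans hd)
  obtain ⟨j, -, hj⟩ := (Nat.dvd_prime_pow Nat.prime_two).1 (hk ▸ hd)
  exact ⟨j, hj⟩

/-- An involution and an element of odd order do not commute. -/
theorem not_commute_odd (h : IsCIT G) {t x : G} (ht : orderOf t = 2) (hx : Commute x t)
    (ho : ¬ 2 ∣ orderOf x) : x = 1 :=
  h.eq_one_of_odd ht hx (Nat.not_even_iff_odd.1 fun he => ho he.two_dvd)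

/-- An involution inverts a subgroup of odd order which it normalises. -/
theorem inverts_odd (h : IsCIT G) {t : G} (ht : orderOf t = 2) (N : Subgroup G) (hN : ¬ 2 ∣ Nat.card N)
    (ht' : ∀ n ∈ N, t * n * t⁻¹ ∈ N) {n : G} (hn : n ∈ N) : t * n * t⁻¹ = n⁻¹ := by
  have ht2 : t⁻¹ = t := by
    rw [inv_eq_iff_mul_eq_one, ← sq, ← ht, pow_orderOf_eq_one]
  let ψ : N → N := fun u => u⁻¹ * ⟨t * u * t⁻¹, ht' u u.2⟩
  have hinj : Function.Injective ψ := by
    intro u w huw
    have e : (u : G)⁻¹ * (t * u * t⁻¹) = (w : G)⁻¹ * (t * w * t⁻¹) := congrArg Subtype.val huw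
    have e2 : Commute ((w : G) * (u : G)⁻¹) t := by
      have e3 : t * u * t⁻¹ = (u : G) * ((w : G)⁻¹ * (t * w * t⁻¹)) := by rw [← e]; group
      have e4 : t * ((w : G) * (u : G)⁻¹) * t⁻¹ = (w : G) * (u : G)⁻¹ := by
        calc t * ((w : G) * (u : G)⁻¹) * t⁻¹ = (t * w * t⁻¹) * (t * u * t⁻¹)⁻¹ := by group
          _ = _ := by rw [e3]; group
      exact ((mul_inv_eq_iff_eq_mul.1 e4).symm : _)
    have h1 := not_commute_odd h ht e2 fun h2 => hN (h2.trans (by
      rw [show (w : G) * (u : G)⁻¹ = ((w * u⁻¹ : N) : G) from rfl, orderOf_coe]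
      exact orderOf_dvd_natCard _))
    exact (Subtype.ext (mul_inv_eq_one.1 h1)).symm
  obtain ⟨u, hu⟩ := (Finite.injective_iff_surjective.mp hinj) ⟨n, hn⟩
  have e : (u : G)⁻¹ * (t * u * t⁻¹) = n := congrArg Subtype.val hu
  have h2 : t * t = 1 := by rw [← sq, ← ht, pow_orderOf_eq_one]
  rw [← e, ht2]
  simp only [mul_inv_rev, ht2, inv_inv, mul_assoc, h2, mul_one]

/-- A normal subgroup of odd order is commutative. -/
theorem comm_of_odd (h : IsCIT G) {t : G} (ht : orderOf t = 2) (N : Subgroup G) [hNn : N.Normal]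
    (hN : ¬ 2 ∣ Nat.card N) {a b : G} (ha : a ∈ N) (hb : b ∈ N) : a * b = b * a := by
  have hi := fun {n : G} (hn : n ∈ N) => inverts_odd h ht N hN (fun n hn => hNn.conj_mem n hn t) hn
  have e := hi (mul_mem ha hb)
  rw [show t * (a * b) * t⁻¹ = (t * a * t⁻¹) * (t * b * t⁻¹) by group, hi ha, hi hb, ← mul_inv_rev,
    inv_inj] at e
  exact e.symm

/-- In a nonsolvable group the solvable radical is the 2-core. -/
theorem radical_trivial (h : IsCIT G) (hns : ¬ Group.IsSolvable G) (h2 : 2 ∣ Nat.card G) (hO : Cfsg.pCore 2 G = ⊥)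
    (N : Subgroup G) [N.Normal] (hN : Group.IsSolvable N) : N = ⊥ := by
  classical
  haveI := Fact.mk Nat.prime_two
  by_contra hN1
  obtain ⟨A, hAn, hA, hAN, hAmin⟩ := Grp.exists_minimal_normal_le hN1
  haveI := hAn
  haveI := hN
  obtain ⟨r, hr, hAr⟩ :=
    Grp.minimal_normal_solvable_isPGroup (Grp.isSolvable_of_le hAN hN) hA hAmin
  by_cases hr2 : r = 2
  · subst hr2
    exact hA (le_bot_iff.1 (hO ▸ (le_sSup ⟨hAn, hAr⟩ : A ≤ Cfsg.pCore 2 G)))
  haveI := Fact.mk hr
  have hodd : ¬ 2 ∣ Nat.card A := fun hd => by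
    obtain ⟨k, hk⟩ := hAr.exists_card_eq
    exact hr2 ((Nat.prime_dvd_prime_iff_eq Nat.prime_two hr).1 (Nat.prime_two.dvd_of_dvd_pow (hk ▸ hd))).symm
  obtain ⟨t, ht⟩ := exists_prime_orderOf_dvd_card' 2 h2
  set C := centralizer (A : Set G) with hC
  haveI : C.Normal := inferInstance
  obtain ⟨a, haA, ha1⟩ := A.bot_or_exists_ne_one.resolve_left hA
  have hCodd : ¬ 2 ∣ Nat.card C := fun hd => by
    obtain ⟨u, hu⟩ := exists_prime_orderOf_dvd_card' 2 hd
    exact ha1 (not_commute_odd h (t := (u : G)) (by rw [orderOf_coe, hu])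
      (mem_centralizer_iff.1 u.2 a haA) fun hd2 => hodd (hd2.trans (by
        rw [← orderOf_mk a haA]; exact orderOf_dvd_natCard _)))
  haveI : Group.IsSolvable C := Group.isSolvable_of_comm fun x y =>
    Subtype.ext (comm_of_odd h ht C hCodd x.2 y.2)
  have huniq : ∀ s : G ⧸ C, orderOf s = 2 → s = (t : G ⧸ C) := by
    intro s hs
    obtain ⟨g, rfl⟩ := QuotientGroup.mk_surjective s
    obtain ⟨k, hk⟩ := even_order h (g := g) (hs ▸ orderOf_map_dvd (QuotientGroup.mk' C) g)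
    have hg2 : g ^ 2 = 1 := by
      have hmem : g ^ 2 ∈ C := (QuotientGroup.eq_one_iff _).1 (by
        rw [QuotientGroup.mk_pow, ← hs, pow_orderOf_eq_one])
      have h1 : orderOf (g ^ 2) ∣ 2 ^ k := hk ▸ orderOf_pow_dvd 2
      have h2' : orderOf (g ^ 2) ∣ Nat.card C := by
        rw [← orderOf_mk (g ^ 2) hmem]; exact orderOf_dvd_natCard _
      rw [← orderOf_eq_one_iff]
      exact Nat.eq_one_of_dvd_coprimes
        (Nat.Coprime.pow_left k (Nat.prime_two.coprime_iff_not_dvd.2 hCodd)) h1 h2'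
    have hg : orderOf g = 2 := orderOf_eq_prime hg2 fun e => by
      rw [e, QuotientGroup.mk_one, orderOf_one] at hs; omega
    refine QuotientGroup.eq.2 (mem_centralizer_iff.2 fun x hx => ?_)
    have hi := fun {n : G} {u : G} (hu : orderOf u = 2) (hn : n ∈ A) =>
      inverts_odd h hu A hodd (fun n hn => hAn.conj_mem n hn u) hn
    have e1 := hi hg hx
    have e2 := hi ht hx
    rw [← e2] at e1
    calc x * (g⁻¹ * t) = g⁻¹ * (g * x * g⁻¹) * t := by group
      _ = g⁻¹ * (t * x * t⁻¹) * t := by rw [e1]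
      _ = _ := by group
  have ht' : orderOf (t : G ⧸ C) = 2 := by
    refine orderOf_eq_prime ?_ fun e => hCodd ?_
    · rw [← QuotientGroup.mk_pow, ← ht, pow_orderOf_eq_one, QuotientGroup.mk_one]
    · have := (orderOf_mk t ((QuotientGroup.eq_one_iff t).1 e))
      exact ht ▸ this ▸ orderOf_dvd_natCard _
  have hcen : centralizer ({(t : G ⧸ C)} : Set (G ⧸ C)) = ⊤ := eq_top_iff.2 fun x _ =>
    mem_centralizer_singleton_iff.2 (mul_inv_eq_iff_eq_mul.1 (huniq (x * (t : G ⧸ C) * x⁻¹) (by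
      rw [Invol.orderOf_conj_eq, ht'])))
  have hp : IsPGroup 2 (G ⧸ C) := by
    have := quot h C _ ht'
    rw [hcen] at this
    exact this.of_equiv Subgroup.topEquiv
  haveI : Group.IsNilpotent (G ⧸ C) := hp.isNilpotent
  exact hns ((Group.isSolvable_iff_subgroup_quotient C).mpr ⟨inferInstance, inferInstance⟩)

/-- A minimal normal subgroup that is not solvable has no solvable normal subgroup. -/
theorem false_of_solvable_normal (hrad : ∀ N : Subgroup G, N.Normal → Group.IsSolvable N → N = ⊥)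
    (M : Subgroup G) [hMn : M.Normal] (K : Subgroup M) [hKn : K.Normal] (hK : Group.IsSolvable K)
    (hK1 : K ≠ ⊥) : False := by
  obtain ⟨R, hRn, hRs, hRmax⟩ := Transfer.CIT.exists_radical M
  haveI := hRn
  haveI : (R.map M.subtype).Normal := by
    refine ⟨?_⟩
    rintro _ ⟨x, hx, rfl⟩ g
    let f : M ≃* M := MulAut.conjNormal g
    haveI : (R.map f.toMonoidHom).Normal := Subgroup.Normal.map inferInstance _ f.surjective
    refine ⟨f x, hRmax (R.map f.toMonoidHom) inferInstance (Grp.isSolvable_map hRs _) ⟨x, hx, rfl⟩, ?_⟩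
    simp [f]
  have h := hrad (R.map M.subtype) inferInstance (Grp.isSolvable_map hRs _)
  rw [Subgroup.map_eq_bot_iff_of_injective _ M.subtype_injective] at h
  exact hK1 (le_bot_iff.1 (h ▸ hRmax K hKn hK))

/-- A minimal normal subgroup is simple. -/
theorem exists_simple_normal (h : IsCIT G) (hns : ¬ Group.IsSolvable G) (h2G : 2 ∣ Nat.card G)
    (hrad : ∀ N : Subgroup G, N.Normal → Group.IsSolvable N → N = ⊥) :
    ∃ M : Subgroup G, M.Normal ∧ IsSimpleGroup M ∧ ¬ IsMulCommutative M := by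
  classical
  haveI := Fact.mk Nat.prime_two
  have htop : (⊤ : Subgroup G) ≠ ⊥ := fun e => by
    haveI : Subsingleton G := Subgroup.subsingleton_iff.mp (subsingleton_of_top_le_bot (α := Subgroup G) e.le)
    exact hns inferInstance
  obtain ⟨M, hMn, hM, -, hMmin⟩ := Grp.exists_minimal_normal_le htop
  haveI := hMn
  have hMns : ¬ Group.IsSolvable M := fun hs => hM (hrad M hMn hs)
  refine ⟨M, hMn, ?_, fun hc => hMns (Group.isSolvable_of_comm fun a b => hc.is_comm.comm a b)⟩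
  haveI : Nontrivial M := (Subgroup.nontrivial_iff_ne_bot M).mpr hM
  refine ⟨fun K hK => ?_⟩
  by_contra hKc
  push Not at hKc
  obtain ⟨K0, hK0n, hK0ne, hK0K, hK0min⟩ := Grp.exists_minimal_normal_le (N := K) hKc.1
  haveI := hK0n
  set A := K0.map M.subtype with hA
  have hAM : A ≤ M := Subgroup.map_subtype_le _
  have hAne : A ≠ ⊥ := fun e => hK0ne ((Subgroup.map_eq_bot_iff_of_injective _ M.subtype_injective).mp e)
  have hMA : ∀ m ∈ M, ∀ a ∈ A, m * a * m⁻¹ ∈ A := by
    rintro m hm _ ⟨a, ha, rfl⟩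
    exact ⟨_, hK0n.conj_mem a ha ⟨m, hm⟩, rfl⟩
  obtain ⟨g, hg⟩ : ∃ g : G, ∃ a ∈ A, g * a * g⁻¹ ∉ A := by
    by_contra hc
    push Not at hc
    have hAn : A.Normal := ⟨fun a ha g => hc g a ha⟩
    rcases hMmin A hAn hAM with e | e
    · exact hAne e
    · refine hKc.2 (eq_top_iff.2 fun x _ => hK0K ?_)
      obtain ⟨y, hy, hyx⟩ : (x : G) ∈ A := by rw [e]; exact x.2
      exact Subtype.ext hyx ▸ hy
  set B := A.map (MulAut.conj g).toMonoidHom with hB
  have hBM : B ≤ M := by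
    rintro _ ⟨b, hb, rfl⟩
    exact hMn.conj_mem b (hAM hb) g
  have hMB : ∀ m ∈ M, ∀ b ∈ B, m * b * m⁻¹ ∈ B := by
    rintro m hm _ ⟨b, hb, rfl⟩
    refine ⟨(g⁻¹ * m * g) * b * (g⁻¹ * m * g)⁻¹, hMA _ (hMn.conj_mem' m hm g) b hb, ?_⟩
    simp only [MulEquiv.coe_toMonoidHom, MulAut.conj_apply]
    group
  have hinf : ∀ x ∈ A, x ∈ B → x = 1 := by
    let I : Subgroup M := (A ⊓ B).subgroupOf M
    haveI : I.Normal := ⟨fun x hx m => ⟨hMA m m.2 _ hx.1, hMB m m.2 _ hx.2⟩⟩
    have hIK : I ≤ K0 := by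
      intro x hx
      obtain ⟨y, hy, hyx⟩ := (mem_subgroupOf.1 hx).1
      exact Subtype.ext hyx ▸ hy
    rcases hK0min I inferInstance hIK with e | e
    · intro x hx hx'
      have : (⟨x, hAM hx⟩ : M) ∈ I := ⟨hx, hx'⟩
      rw [e, mem_bot] at this
      exact congrArg Subtype.val this
    · exfalso
      obtain ⟨a, ha, hga⟩ := hg
      have hle : A ≤ B := by
        rintro _ ⟨y, hy, rfl⟩
        exact (e.symm ▸ hy : y ∈ I).2
      have heq : A = B := Subgroup.eq_of_le_of_card_ge hle (by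
        rw [hB, Subgroup.card_map_of_injective (MulAut.conj g).injective])
      exact hga (heq.symm ▸ ⟨a, ha, rfl⟩)
  have hcomm : ∀ a ∈ A, ∀ b ∈ B, a * b = b * a := fun a ha b hb => by
    have h1 : a * b * a⁻¹ * b⁻¹ = 1 := hinf _
      (by rw [show a * b * a⁻¹ * b⁻¹ = a * (b * a⁻¹ * b⁻¹) by group]
          exact mul_mem ha (hMA b (hBM hb) _ (inv_mem ha)))
      (mul_mem (hMB a (hAM ha) b hb) (inv_mem hb))
    exact mul_inv_eq_iff_eq_mul.1 (mul_inv_eq_one.1 h1)
  have hAK : Nat.card A = Nat.card K0 := by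
    rw [hA, Subgroup.card_map_of_injective M.subtype_injective]
  by_cases h2 : 2 ∣ Nat.card A
  · obtain ⟨u, hu⟩ := exists_prime_orderOf_dvd_card' 2 h2
    have hB2 : IsPGroup 2 B := (h (u : G) (by rw [orderOf_coe, hu])).to_le fun b hb =>
      mem_centralizer_singleton_iff.2 (hcomm u u.2 b hb).symm
    obtain ⟨k, hk⟩ := hB2.exists_card_eq
    have hK2 : IsPGroup 2 K0 := IsPGroup.of_card (n := k) (by
      rw [← hAK, ← hk]
      exact (Subgroup.card_map_of_injective (MulAut.conj g).injective).symm)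
    haveI : Group.IsNilpotent K0 := hK2.isNilpotent
    exact false_of_solvable_normal hrad M K0 inferInstance hK0ne
  · obtain ⟨t, ht⟩ := exists_prime_orderOf_dvd_card' 2 h2G
    have h2M : 2 ∣ Nat.card M := by
      by_contra hodd
      exact hMns (Group.isSolvable_of_comm fun x y => Subtype.ext (comm_of_odd h ht M hodd x.2 y.2))
    obtain ⟨u, hu⟩ := exists_prime_orderOf_dvd_card' 2 h2M
    refine false_of_solvable_normal hrad M K0 (Group.isSolvable_of_comm fun x y => ?_) hK0ne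
    haveI := hK0n
    exact Subtype.ext (comm_of_odd (h.subgroup M) hu K0 (hAK ▸ h2) x.2 y.2)

end Cfsg.Agent.Grp.PGCIT
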