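import Cfsg.Agent.Lib.Grp.PrimeGraphCIT.Main

/-!
Groups with the prime graph of `PSL(2, 2^m)` or of `Sz(q)`.
-/

set_option autoImplicit false
set_option linter.style.haveILetI false
set_option linter.unusedSectionVars false

universe u v

namespace Cfsg.Agent.Grp.PGCIT

open Subgroup Cfsg.Agent Cfsg.Agent.Transfer.CIT

variable {G : Type u} [Group G] [Finite G] {F : Type v} [Field F] [Fintype F]

theorem psl_orders {m : ℕ} (hm : 2 ≤ m) (hF : Fintype.card F = 2 ^ m)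
    (x : Matrix.ProjectiveSpecialLinearGroup (Fin 2) F) :
    orderOf x ∣ 2 ∨ orderOf x ∣ 2 ^ m - 1 ∨ orderOf x ∣ 2 ^ m + 1 := by
  haveI : Fact (Nat.Prime 2) := ⟨Nat.prime_two⟩
  haveI : CharP F 2 := charP_of_card_eq_prime_pow hF
  have h4 : 4 ≤ Fintype.card F := by
    rw [hF]
    calc 4 = 2 ^ 2 := rfl
      _ ≤ 2 ^ m := Nat.pow_le_pow_right (by norm_num) hm
  have h := S2475.result (F := F) 2 h4
  have hmem : orderOf x ∈ Set.range (orderOf : Matrix.ProjectiveSpecialLinearGroup (Fin 2) F → ℕ) := ⟨x, rfl⟩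
  rw [h] at hmem
  have h2 : 2 ∣ Fintype.card F := hF ▸ dvd_pow_self 2 (by omega)
  have hg : Nat.gcd 2 (Fintype.card F - 1) = 1 :=
    Nat.prime_two.coprime_iff_not_dvd.2 (by omega)
  rw [hF] at hg
  simp only [Set.mem_setOf_eq, hg, Nat.div_one, hF] at hmem
  exact hmem

theorem sz_orders {m : ℕ} (hS : Suz.SzField F m) (x : ↥(Cfsg.Sz F m)) :
    (∃ k, orderOf x = 2 ^ k) ∨ orderOf x ∣ 2 ^ (2 * m + 1) - 1 ∨ orderOf x ∣ (2 ^ (2 * m + 1)) ^ 2 + 1 := by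
  classical
  haveI := Fact.mk Nat.prime_two
  rcases Suz.trichotomy hS x with ⟨c, hc⟩ | ⟨c, z, -, hc⟩ | h
  · left
    have hp : IsPGroup 2 (Suz.unip hS) :=
      IsPGroup.of_card (n := (2 * m + 1) * 2) (by rw [Suz.card_unip, ← pow_mul])
    obtain ⟨k, hk⟩ := IsPGroup.iff_orderOf.1 hp ⟨_, hc⟩
    rw [orderOf_mk, Invol.orderOf_conj_eq] at hk
    exact ⟨k, hk⟩
  · right; left
    rw [← Invol.orderOf_conj_eq c x, hc, ← hS.card, ← Fintype.card_units, ← Nat.card_eq_fintype_card]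
    exact (orderOf_map_dvd (Suz.torHom hS) z).trans (_root_.orderOf_dvd_natCard z)
  · exact Or.inr (Or.inr (Suz.FPF.orderOf_dvd hS h))

theorem pow_two_of_even {d a : ℕ} (ha : ¬ 2 ∣ a) (h : 2 ∣ d) (hd : d ∣ a) : False := ha (h.trans hd)

/-- Recognition of `PSL(2, 2^m)`. -/
theorem psl_recognition (m : ℕ) (hm : 4 ≤ m) (hF : Fintype.card F = 2 ^ m)
    (h : SameGraph (Matrix.ProjectiveSpecialLinearGroup (Fin 2) F) G) :
    Nonempty (G ⧸ Cfsg.pCore 2 G ≃* Matrix.ProjectiveSpecialLinearGroup (Fin 2) F) := by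
  classical
  have hQcard := psl_primes (F := F) (m := m) (by omega) hF
  obtain ⟨j, hj⟩ : 2 ∣ 2 ^ m := dvd_pow_self 2 (by omega)
  have h16 : 16 ≤ 2 ^ m := by
    calc 16 = 2 ^ 4 := rfl
      _ ≤ 2 ^ m := Nat.pow_le_pow_right (by norm_num) hm
  have hQ2 : ∀ x : Matrix.ProjectiveSpecialLinearGroup (Fin 2) F, 2 ∣ orderOf x → ∃ k : ℕ, orderOf x = 2 ^ k := by
    intro x hx
    rcases psl_orders (by omega) hF x with e | e | e
    · rcases (Nat.dvd_prime Nat.prime_two).1 e with e | e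
      · exact ⟨0, e⟩
      · exact ⟨1, e⟩
    · exact (pow_two_of_even (by omega) hx e).elim
    · exact (pow_two_of_even (by omega) hx e).elim
  have hsq : 2 ^ (2 * m) - 1 = (2 ^ m + 1) * (2 ^ m - 1) := by
    rw [mul_comm 2 m, pow_mul, ← Nat.sq_sub_sq, one_pow]
  obtain ⟨r, hr, hrd⟩ := Nat.exists_prime_and_dvd (show 2 ^ m - 1 ≠ 1 by omega)
  obtain ⟨s, hs, hsd⟩ := Nat.exists_prime_and_dvd (show 2 ^ m + 1 ≠ 1 by omega)
  have hr2 : r ≠ 2 := by rintro rfl; omega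
  have hs2 : s ≠ 2 := by rintro rfl; omega
  have hboth : ∀ t : ℕ, t.Prime → t ≠ 2 → t ∣ 2 ^ m - 1 → t ∣ 2 ^ m + 1 → False := fun t ht ht2 h1 h2 =>
    ht2 ((Nat.prime_dvd_prime_iff_eq ht Nat.prime_two).1 (by
      have := Nat.dvd_sub h2 h1
      rwa [show 2 ^ m + 1 - (2 ^ m - 1) = 2 by omega] at this))
  have hCIT := h.cit hQ2
  have hrQ : r ∣ Nat.card (Matrix.ProjectiveSpecialLinearGroup (Fin 2) F) := by
    rw [hQcard, hsq]; exact (hrd.mul_left _).mul_left _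
  have hsQ : s ∣ Nat.card (Matrix.ProjectiveSpecialLinearGroup (Fin 2) F) := by
    rw [hQcard, hsq]; exact (hsd.mul_right _).mul_left _
  have h2Q : 2 ∣ Nat.card (Matrix.ProjectiveSpecialLinearGroup (Fin 2) F) := by
    rw [hQcard]; exact (dvd_pow_self 2 (by omega)).mul_right _
  have hns := h.not_solvable hr hs hr2 hs2 (fun e => hboth r hr hr2 hrd (e ▸ hsd)) h2Q hrQ hsQ
    (fun x hx => by
      rcases psl_orders (by omega) hF x with e | e | e <;> rw [hx] at e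
      · exact hr2 ((Nat.prime_dvd_prime_iff_eq hr Nat.prime_two).1 ((dvd_mul_right r s).trans e))
      · exact hboth s hs hs2 ((dvd_mul_left s r).trans e) hsd
      · exact hboth r hr hr2 hrd ((dvd_mul_right r s).trans e)) hQ2
  obtain ⟨hX, -, -, ⟨M, hMn, hMs, hMc⟩, hprimes, hlift⟩ :=
    quotient_props hCIT hns ((h.1 2 Nat.prime_two).1 h2Q)
  haveI := hMn
  haveI := hMs
  have hodd : ∀ t : ℕ, t.Prime → t ≠ 2 →
      (t ∣ Nat.card (G ⧸ Cfsg.pCore 2 G) ↔ t ∣ 2 ^ (2 * m) - 1) := fun t ht ht2 => by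
    rw [← hprimes t ht ht2, ← h.1 t ht, hQcard, dvd_two_pow_mul ht ht2]
  rcases cases_simple hX M hMc with ⟨K, i1, i2, l, hS, ⟨e⟩⟩ | ⟨K, i1, i2, n, hn, hK, ⟨e⟩⟩ | ⟨hsmall, -⟩
  · exfalso
    have h3 := (hodd 3 Nat.prime_three (by norm_num)).2 (three_dvd_two_pow m)
    rw [Nat.card_congr e.toEquiv, sz_primes hS, dvd_two_pow_mul Nat.prime_three (by norm_num)] at h3
    exact three_not_sz l h3
  · have hodd' : ∀ t : ℕ, t.Prime → t ≠ 2 → (t ∣ 2 ^ (2 * n) - 1 ↔ t ∣ 2 ^ (2 * m) - 1) := fun t ht ht2 => by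
      rw [← hodd t ht ht2, Nat.card_congr e.toEquiv, psl_primes (by omega) hK, dvd_two_pow_mul ht ht2]
    have key : ∀ a b : ℕ, 4 ≤ a →
        (∀ t : ℕ, t.Prime → t ≠ 2 → t ∣ 2 ^ (2 * a) - 1 → t ∣ 2 ^ (2 * b) - 1) → a ∣ b := by
      intro a b ha hab
      obtain ⟨p, hp⟩ := Recog.Zsigmondy.exists_primitive (a := 2) (n := 2 * a) le_rfl (by omega) (by omega) (by omega)
      haveI := Fact.mk hp.1
      have h1 := dvd_iff_ord.1 (hab p hp.1 (primitive_large (by omega) hp).1 hp.2.1)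
      rw [primitive_ord (by omega) hp] at h1
      exact Nat.dvd_of_mul_dvd_mul_left (by norm_num) h1
    have hmn := key m n hm fun t ht ht2 htd => (hodd' t ht ht2).2 htd
    have hn4 : 4 ≤ n := le_trans hm (Nat.le_of_dvd (by omega) hmn)
    have hnm := key n m hn4 fun t ht ht2 htd => (hodd' t ht ht2).1 htd
    obtain rfl := Nat.dvd_antisymm hmn hnm
    obtain ⟨e'⟩ := Dickson.nonempty_psl_congr (FiniteField.ringEquivOfCardEq (hK.trans hF.symm))
    exact ⟨e.trans e'⟩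
  · exfalso
    refine small_absurd hX M hm hodd (fun hm4 x hx => ?_) hsmall
    subst hm4
    obtain ⟨y, hy⟩ := hlift x
    obtain ⟨z, hz⟩ := (h.2 5 17 (by norm_num) (by norm_num) (by norm_num)).2
      ⟨_, orderOf_pow_orderOf_div (orderOf_pos y).ne' (hx ▸ hy)⟩
    rcases psl_orders (by omega) hF z with e | e | e <;> rw [hz] at e <;> norm_num at e

/-- Recognition of `Sz(q)`. -/
theorem sz_recognition (m : ℕ) (hS : Suz.SzField F m) (h : SameGraph ↥(Cfsg.Sz F m) G) :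
    Nonempty (G ⧸ Cfsg.pCore 2 G ≃* ↥(Cfsg.Sz F m)) := by
  classical
  have hm := hS.one_le
  have hQcard := sz_primes hS
  obtain ⟨j, hj⟩ : 2 ∣ 2 ^ (2 * m + 1) := dvd_pow_self 2 (by omega)
  have h8 : 8 ≤ 2 ^ (2 * m + 1) := by
    calc 8 = 2 ^ 3 := rfl
      _ ≤ _ := Nat.pow_le_pow_right (by norm_num) (by omega)
  have hq2 : 2 ∣ (2 ^ (2 * m + 1)) ^ 2 := dvd_pow (Dvd.intro _ hj.symm) two_ne_zero
  have hQ2 : ∀ x : ↥(Cfsg.Sz F m), 2 ∣ orderOf x → ∃ k : ℕ, orderOf x = 2 ^ k := by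
    intro x hx
    rcases sz_orders hS x with e | e | e
    · exact e
    · exact (pow_two_of_even (by omega) hx e).elim
    · exact (pow_two_of_even (by omega) hx e).elim
  have hsq : 2 ^ (2 * (2 * m + 1)) = (2 ^ (2 * m + 1)) ^ 2 := by rw [← pow_mul, mul_comm]
  obtain ⟨r, hr, hrd⟩ := Nat.exists_prime_and_dvd (show 2 ^ (2 * m + 1) - 1 ≠ 1 by omega)
  obtain ⟨s, hs, hsd⟩ := Nat.exists_prime_and_dvd (show (2 ^ (2 * m + 1)) ^ 2 + 1 ≠ 1 by
    have : 0 < (2 ^ (2 * m + 1)) ^ 2 := by positivity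
    omega)
  have hr2 : r ≠ 2 := by rintro rfl; omega
  have hs2 : s ≠ 2 := by rintro rfl; omega
  have hboth : ∀ t : ℕ, t.Prime → t ≠ 2 → t ∣ 2 ^ (2 * m + 1) - 1 → t ∣ (2 ^ (2 * m + 1)) ^ 2 + 1 → False :=
    fun t ht ht2 h1 h2 => ht2 ((Nat.prime_dvd_prime_iff_eq ht Nat.prime_two).1 (by
      have h3 : t ∣ (2 ^ (2 * m + 1)) ^ 2 - 1 := by
        rw [← one_pow 2, Nat.sq_sub_sq]; exact h1.mul_left _
      have := Nat.dvd_sub h2 h3
      rwa [show (2 ^ (2 * m + 1)) ^ 2 + 1 - ((2 ^ (2 * m + 1)) ^ 2 - 1) = 2 by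
        have : 0 < (2 ^ (2 * m + 1)) ^ 2 := by positivity
        omega] at this))
  have hCIT := h.cit hQ2
  have hrQ : r ∣ Nat.card ↥(Cfsg.Sz F m) := by rw [hQcard]; exact (hrd.mul_left _).mul_left _
  have hsQ : s ∣ Nat.card ↥(Cfsg.Sz F m) := by
    rw [hQcard, hsq]; exact (hsd.mul_right _).mul_left _
  have h2Q : 2 ∣ Nat.card ↥(Cfsg.Sz F m) := by
    rw [hQcard]; exact (dvd_pow_self 2 (by omega)).mul_right _
  have hns := h.not_solvable hr hs hr2 hs2 (fun e => hboth r hr hr2 hrd (e ▸ hsd)) h2Q hrQ hsQ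
    (fun x hx => by
      rcases sz_orders hS x with ⟨k, e⟩ | e | e <;> rw [hx] at e
      · exact hr2 ((Nat.prime_dvd_prime_iff_eq hr Nat.prime_two).1
          (hr.dvd_of_dvd_pow (e ▸ dvd_mul_right r s)))
      · exact hboth s hs hs2 ((dvd_mul_left s r).trans e) hsd
      · exact hboth r hr hr2 hrd ((dvd_mul_right r s).trans e)) hQ2
  obtain ⟨hX, -, -, ⟨M, hMn, hMs, hMc⟩, hprimes, -⟩ :=
    quotient_props hCIT hns ((h.1 2 Nat.prime_two).1 h2Q)
  haveI := hMn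
  haveI := hMs
  have hodd : ∀ t : ℕ, t.Prime → t ≠ 2 →
      (t ∣ Nat.card (G ⧸ Cfsg.pCore 2 G) ↔
        t ∣ (2 ^ (2 * (2 * m + 1)) + 1) * (2 ^ (2 * m + 1) - 1)) := fun t ht ht2 => by
    rw [← hprimes t ht ht2, ← h.1 t ht, hQcard, dvd_two_pow_mul ht ht2]
  have no3 : ¬ 3 ∣ Nat.card (G ⧸ Cfsg.pCore 2 G) := fun h3 =>
    three_not_sz m ((hodd 3 Nat.prime_three (by norm_num)).1 h3)
  rcases cases_simple hX M hMc with ⟨K, i1, i2, l, hl, ⟨e⟩⟩ | ⟨K, i1, i2, n, hn, hK, ⟨e⟩⟩ | ⟨-, h3⟩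
  · have hodd' : ∀ t : ℕ, t.Prime → t ≠ 2 → (t ∣ (2 ^ (2 * (2 * l + 1)) + 1) * (2 ^ (2 * l + 1) - 1) ↔
        t ∣ (2 ^ (2 * (2 * m + 1)) + 1) * (2 ^ (2 * m + 1) - 1)) := fun t ht ht2 => by
      rw [← hodd t ht ht2, Nat.card_congr e.toEquiv, sz_primes hl, dvd_two_pow_mul ht ht2]
    have key : ∀ a b : ℕ, 1 ≤ a →
        (∀ t : ℕ, t.Prime → t ≠ 2 → t ∣ (2 ^ (2 * (2 * a + 1)) + 1) * (2 ^ (2 * a + 1) - 1) →
          t ∣ (2 ^ (2 * (2 * b + 1)) + 1) * (2 ^ (2 * b + 1) - 1)) → 2 * a + 1 ∣ 2 * b + 1 := by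
      intro a b ha hab
      obtain ⟨p, hp⟩ := Recog.Zsigmondy.exists_primitive (a := 2) (n := 4 * (2 * a + 1)) le_rfl (by omega)
        (by omega) (by omega)
      haveI := Fact.mk hp.1
      have hsplit : ∀ c : ℕ, 2 ^ (4 * c) - 1 = (2 ^ (2 * c) + 1) * (2 ^ (2 * c) - 1) := fun c => by
        rw [show 4 * c = 2 * c * 2 by ring, pow_mul, ← Nat.sq_sub_sq, one_pow]
      have hdiv : ∀ c : ℕ, (2 ^ (2 * c) + 1) * (2 ^ c - 1) ∣ 2 ^ (4 * c) - 1 := fun c => by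
        rw [hsplit]; exact mul_dvd_mul_left _ (Nat.pow_sub_one_dvd_pow_sub_one 2 (dvd_mul_left c 2))
      have hpd : p ∣ 2 ^ (2 * (2 * a + 1)) + 1 := by
        have h0 := hp.2.1
        rw [hsplit] at h0
        exact (hp.1.dvd_mul.1 h0).resolve_right (hp.2.2 _ (by omega) (by omega))
      have h1 := dvd_iff_ord.1 ((hab p hp.1 (primitive_large (by omega) hp).1 (hpd.mul_right _)).trans
        (hdiv (2 * b + 1)))
      rw [primitive_ord (by omega) hp] at h1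
      exact Nat.dvd_of_mul_dvd_mul_left (by norm_num) h1
    have h1 := key m l hm fun t ht ht2 htd => (hodd' t ht ht2).2 htd
    have h2 := key l m hl.one_le fun t ht ht2 htd => (hodd' t ht ht2).1 htd
    obtain rfl : m = l := by have := Nat.dvd_antisymm h1 h2; omega
    let ψ : K ≃+* F := FiniteField.ringEquivOfCardEq (hl.card.trans hS.card.symm)
    have hι : ∀ x, (ψ : K →+* F) (Suz.th m x) = Suz.th m ((ψ : K →+* F) x) := fun x => map_pow _ _ _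
    have hbij : Function.Bijective (Suz.fieldHom hS hl (ψ : K →+* F) hι) :=
      (Nat.bijective_iff_injective_and_card _).2
        ⟨Suz.fieldHom_injective hS hl _ hι, by rw [Suz.card_Sz hl, Suz.card_Sz hS]⟩
    exact ⟨e.trans (MulEquiv.ofBijective _ hbij)⟩
  · exfalso
    refine no3 ?_
    rw [Nat.card_congr e.toEquiv, psl_primes (by omega) hK]
    exact (three_dvd_two_pow n).mul_left _
  · exact absurd (h3.trans (card_subgroup_dvd_card M)) no3

end Cfsg.Agent.Grp.PGCIT
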